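import Cfsg.Agent.H256.SporB
import Cfsg.Agent.NotCT.Orders
import Cfsg.Agent.KFacts.FiTT.AllPairs
import Cfsg.Agent.R08.FiTwentyThree
import Cfsg.Agent.R08.AutT
import Cfsg.Agent.Fischer.Fi23Simple
import Cfsg.Agent.S0280
import Cfsg.Agent.S0283

/-!
# The `Z*_p` theorem, `p` odd: the rows `Fi22` and `Fi23` (helper808)
-/

set_option autoImplicit false
set_option linter.style.haveILetI false

namespace Cfsg.Agent.H808.ZStarFi

open Subgroup Cfsg Cfsg.Agent.H256.ZBasic Cfsg.Agent.H256.ZRed Cfsg.Agent.H256.ZTool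
  Cfsg.Agent.H256.OddInner Cfsg.Agent.H256.Spor

universe u v

variable {K : Type v} [Group K] {p : ℕ}

/-- a subgroup of odd index contains a Sylow 2-subgroup -/
theorem exists_sylow_le' [Finite K] {H : Subgroup K} (h : Odd H.index) : ∃ S : Sylow 2 K, (S : Subgroup K) ≤ H := by
  haveI : Fact (Nat.Prime 2) := ⟨Nat.prime_two⟩
  obtain ⟨P⟩ : Nonempty (Sylow 2 H) := inferInstance
  have h1 : IsPGroup 2 ((P : Subgroup H).map H.subtype) := P.isPGroup'.map _
  have h2 : ¬ 2 ∣ ((P : Subgroup H).map H.subtype).index := by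
    have h3 : ((P : Subgroup H).map H.subtype).index = (P : Subgroup H).index * H.index := by
      rw [Subgroup.index_map_subtype]
    rw [h3, Nat.prime_two.dvd_mul]
    rintro (h4 | h4)
    · exact P.not_dvd_index' Subgroup.index_ne_zero_of_finite h4
    · exact (Nat.not_even_iff_odd.2 h) (even_iff_two_dvd.2 h4)
  refine ⟨h1.toSylow h2, ?_⟩
  rintro _ ⟨x, -, rfl⟩
  exact x.2

/-- an involution centralising a Sylow 2-subgroup is in it -/
theorem mem_of_central [Finite K] (S : Sylow 2 K) {z : K} (zz : z * z = 1)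
    (hc : ∀ x ∈ S, x * z = z * x) : z ∈ S := by
  haveI : Fact (Nat.Prime 2) := ⟨Nat.prime_two⟩
  have h1 : IsPGroup 2 (zpowers z) := by
    intro ⟨x, hx⟩
    obtain ⟨k, rfl⟩ := mem_zpowers_iff.1 hx
    refine ⟨1, Subtype.ext ?_⟩
    show (z ^ k) ^ 2 ^ 1 = 1
    rw [pow_one, ← zpow_natCast, ← zpow_mul, mul_comm, zpow_mul, zpow_natCast, pow_two, zz, one_zpow]
  have h2 : (S : Subgroup K) ≤ normalizer ((zpowers z : Subgroup K) : Set K) := by
    intro x hx
    refine centralizer_le_normalizer _ ?_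
    rw [mem_centralizer_iff]
    rintro _ ⟨k, rfl⟩
    have h3 : Commute x z := hc x hx
    exact (h3.zpow_right k).eq.symm
  have h3 := IsPGroup.to_sup_of_normal_right' S.isPGroup' h1 h2
  have h4 := S.is_maximal' h3 le_sup_left
  have h5 : z ∈ (S : Subgroup K) ⊔ zpowers z := (le_sup_right : zpowers z ≤ _) (mem_zpowers z)
  rw [h4] at h5
  exact h5

theorem exists_ne_of_card {G : Type*} [Group G] [Finite G] [IsSimpleGroup G] (h : ¬ (Nat.card G).Prime) :
    ∃ a b : G, a * b ≠ b * a := by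
  by_contra hcon
  push Not at hcon
  letI : CommGroup G := { (inferInstance : Group G) with mul_comm := hcon }
  exact h (IsSimpleGroup.prime_card (α := G))

theorem card_psu42 {F : Type} [Field F] [Fintype F] (hF : Fintype.card F = 4) : Nat.card (PSU 4 F 2) = 25920 := by
  have h := Cfsg.Agent.S0280.result (F := F) (q := 2) (by rw [hF]; norm_num) 4 (by norm_num)
  have e : (∏ i ∈ Finset.range 4, (if Even i then 2 ^ (i + 1) + 1 else 2 ^ (i + 1) - 1)) = 3 * 3 * 9 * 15 := by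
    decide
  have e2 : Nat.gcd 4 (2 + 1) = 1 := by norm_num
  rw [e, e2] at h
  norm_num at h
  omega

open Cfsg.Agent.R01.FiFacts (TFacts)
open Cfsg.Agent.KFacts.FiTT (Facts TK facts_of_iso)

theorem mem_pair {d d' x : K} : x ∈ centralizer ({d, d'} : Set K) ↔ x * d = d * x ∧ x * d' = d' * x := by
  rw [mem_centralizer_iff]
  constructor
  · intro h
    exact ⟨(h d (Set.mem_insert _ _)).symm, (h d' (Set.mem_insert_of_mem _ rfl)).symm⟩
  · rintro ⟨h1, h2⟩ y (rfl | rfl)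
    · exact h1.symm
    · exact h2.symm

/-- two commuting transpositions of a group isomorphic to `Fi22`, with the facts -/
theorem exists_facts (e : K ≃* Spor.Fi22) :
    ∃ (a b : Spor.Fi22) (R : Subgroup K), a ∈ Cfsg.Agent.R01.Fi22Facts.T ∧ b ∈ Cfsg.Agent.R01.Fi22Facts.T ∧ a ≠ b ∧
      a * b = b * a ∧ Facts K (e.symm a) (e.symm b) R := by
  have tf : TFacts Cfsg.Agent.R01.Fi22Facts.T := Cfsg.Agent.R08.AutT.tFacts
  obtain ⟨a, b, c, -, ht, -⟩ := tf.four
  obtain ⟨R, F⟩ := facts_of_iso e (a := e.symm a) (b := e.symm b) ⟨a, ht.mx, rfl⟩ ⟨b, ht.my, rfl⟩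
    (fun h => ht.xy (e.symm.injective h)) (by rw [← map_mul, ht.cxy, map_mul])
  exact ⟨a, b, R, ht.mx, ht.my, ht.xy, ht.cxy, F⟩

theorem three_of_cube {N : ℕ} (hp : p.Prime) (hp2 : p ≠ 2) (l : List (ℕ × ℕ)) (hl : ∀ q ∈ l, q.1.Prime)
    (hN : N = (l.map fun q => q.1 ^ q.2).prod) (h : p ^ 3 ∣ N) (h3 : ∀ q ∈ l, q.1 ≠ 2 → q.1 ≠ 3 → ¬ q.1 ^ 3 ∣ N) : p = 3 := by
  obtain ⟨q, hq, rfl⟩ := mem_of_cube hp l hl hN ((dvd_pow_self p three_ne_zero).trans h)
  by_contra hne
  exact h3 q hq hp2 hne h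

/-- the row `Fi22` -/
theorem fi22 (h : Spor.IsoFi22 K) (hp : p.Prime) (hp2 : p ≠ 2) : Row.{u} p K := by
  refine row_spor hp hp2 (Cfsg.Agent.H256.OddInner.fi22 h) fun hfin _ _ _ hc y hy => ?_
  rw [Cfsg.Agent.NotCT.Orders.fi22 h] at hc
  have hp3 : p = 3 := three_of_cube hp hp2 [(2, 17), (3, 9), (5, 2), (7, 1), (11, 1), (13, 1)] (by decide +kernel)
    (by norm_num) hc (by decide +kernel)
  subst hp3
  haveI : Fact (Nat.Prime 3) := ⟨hp⟩
  obtain ⟨e⟩ := h
  obtain ⟨a, b, R, ha, hb, hab, hcab, F⟩ := exists_facts e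
  set d := e.symm a
  set d' := e.symm b
  obtain ⟨E, iE, iF, hE, f, hf, hker⟩ := F.quoR
  have hE' : Fintype.card E = 2 ^ 2 := by rw [hE]; norm_num
  haveI : IsSimpleGroup (PSU 4 E 2) := Cfsg.Agent.S0283.result (q := 2) hE' 4 (by norm_num) (by norm_num)
  have hcard := card_psu42 hE
  haveI : Finite (PSU 4 E 2) := Nat.finite_of_card_ne_zero (by rw [hcard]; norm_num)
  obtain ⟨S, hS⟩ := exists_sylow_le' F.odd
  have zz : d * d' * (d * d') = 1 := by
    rw [mul_assoc, ← mul_assoc d' d d', ← F.comm, mul_assoc d d' d', F.dd', mul_one, F.dd]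
  have z1 : d * d' ≠ 1 := by
    intro h1
    apply F.ne
    have h2 : d = d'⁻¹ := eq_inv_of_mul_eq_one_left h1
    rw [h2]
    exact inv_eq_of_mul_eq_one_left F.dd'
  have hSc : ∀ x ∈ S, x * (d * d') = d * d' * x := fun x hx => mem_centralizer_singleton_iff.1 (hS hx)
  refine false_of_hom hy hp2 (z := d * d') zz z1 ⟨S, mem_of_central S zz hSc, hSc, ?_⟩
    (P := centralizer ({d, d'} : Set K)) ?_ ?_ ?_ (L := PSU 4 E 2) (exists_ne_of_card (by rw [hcard]; norm_num))
    (by rw [hcard]; norm_num) f hf ?_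
  · intro w hw _ hwc
    exact F.center_S S hS w hw fun x hx => (hwc x hx).symm
  · intro h1
    refine centralizer_ne_top hy F.d_ne ?_
    rw [eq_top_iff, ← h1]
    exact centralizer_le (by simp)
  · intro x hx
    obtain ⟨h1, h2⟩ := mem_pair.1 hx
    rw [← mul_assoc, h1, mul_assoc, h2, mul_assoc]
  · intro x y hx' hy' hxP hyP
    have h1 := (F.cz x hx').resolve_left fun h => hxP (mem_pair.2 h)
    have h2 := (F.cz y hy').resolve_left fun h => hyP (mem_pair.2 h)
    have e1 : x * d = d' * x := by rw [← h1.1]; group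
    have e2 : x * d' = d * x := by rw [← h1.2]; group
    have e3 : y * d = d' * y := by rw [← h2.1]; group
    have e4 : y * d' = d * y := by rw [← h2.2]; group
    refine mem_pair.2 ⟨?_, ?_⟩
    · rw [mul_assoc, e3, ← mul_assoc, e2, mul_assoc]
    · rw [mul_assoc, e4, ← mul_assoc, e1, mul_assoc]
  · intro x hx ho
    have h1 : (x : K) ∈ R := (hker x).1 hx
    obtain ⟨k, hk⟩ := (IsPGroup.iff_orderOf.1 F.R_two) ⟨_, h1⟩
    have h2 : orderOf (x : K) = 2 ^ k := by
      rw [← hk]; exact (orderOf_injective R.subtype (subtype_injective _) ⟨_, h1⟩)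
    have h3 : orderOf (x : K) = 3 := by
      rw [← ho]; exact (orderOf_injective (centralizer ({d, d'} : Set K)).subtype (subtype_injective _) x)
    rw [h2] at h3
    have h4 : 3 ∣ 2 ^ k := by rw [h3]
    exact absurd (Nat.prime_three.dvd_of_dvd_pow h4) (by norm_num)

/-- the involutions of the centre of a Sylow 2-subgroup of `Fi22` are not transpositions -/
theorem not_mem_T (S : Sylow 2 Spor.Fi22) {w : Spor.Fi22} (hw : w ∈ S) (hc : ∀ x ∈ S, x * w = w * x) :
    w ∉ Cfsg.Agent.R01.Fi22Facts.T := by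
  haveI : Fact (Nat.Prime 2) := ⟨Nat.prime_two⟩
  intro hT
  have tf : TFacts Cfsg.Agent.R01.Fi22Facts.T := Cfsg.Agent.R08.AutT.tFacts
  obtain ⟨a, b, R, ha, hb, hab, hcab, F⟩ := exists_facts (MulEquiv.refl Spor.Fi22)
  obtain ⟨S', hS'⟩ := exists_sylow_le' F.odd
  obtain ⟨g, hg⟩ := MulAction.exists_smul_eq Spor.Fi22 S S'
  have hmem : ∀ x : Spor.Fi22, x ∈ S' ↔ g⁻¹ * x * g ∈ S := by
    intro x
    rw [← hg]
    constructor
    · intro hx
      have hx' : x ∈ ((S : Subgroup Spor.Fi22).map (MulAut.conj g).toMonoidHom) := hx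
      obtain ⟨t, ht, rfl⟩ := hx'
      have : g⁻¹ * (MulAut.conj g).toMonoidHom t * g = t := by simp [MulAut.conj_apply, mul_assoc]
      rw [this]; exact ht
    · intro hx
      show x ∈ ((S : Subgroup Spor.Fi22).map (MulAut.conj g).toMonoidHom)
      exact ⟨_, hx, by simp [MulAut.conj_apply, mul_assoc]⟩
  have h1 : g * w * g⁻¹ ∈ S' := (hmem _).2 (by
    have : g⁻¹ * (g * w * g⁻¹) * g = w := by group
    rw [this]; exact hw)
  rcases F.center_S S' hS' _ h1 (fun y hy => by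
    have h2 := hc _ ((hmem y).1 hy)
    calc g * w * g⁻¹ * y = g * (w * (g⁻¹ * y * g)) * g⁻¹ := by group
      _ = g * ((g⁻¹ * y * g) * w) * g⁻¹ := by rw [h2]
      _ = y * (g * w * g⁻¹) := by group) with h2 | h2
  · exact tf.ne _ (tf.conj g w hT) h2
  · refine tf.two a ha b hb hab hcab ?_
    have h3 : a * b = g * w * g⁻¹ := h2.symm
    rw [h3]
    exact tf.conj g w hT

open Cfsg.Agent.R08.FiTwentyThree in
open Cfsg.Agent.Fischer.Fi23Z (z0) in
/-- no minimal counterexample in `Fi23` -/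
theorem fi23_aux {y : Spor.Fi23} (hy : MinCex 3 y) : False := by
  haveI : Fact (Nat.Prime 2) := ⟨Nat.prime_two⟩
  haveI : Fact (Nat.Prime 3) := ⟨Nat.prime_three⟩
  haveI : Finite Spor.Fi23 := finite_fi23
  haveI : Finite Spor.Fi22 := Cfsg.Agent.R08.AutT.finite
  haveI : IsSimpleGroup Spor.Fi22 := Cfsg.Agent.R01.Fi22Facts.isSimple
  have tf : TFacts Cfsg.Agent.R01.Fi22Facts.T := Cfsg.Agent.R08.AutT.tFacts
  have hodd : Odd (Cfsg.Agent.Fischer.Fi23Class.K).index := by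
    have h : (Cfsg.Agent.SporRec.Fi23Index.H : Subgroup Spor.Fi23).index = 31671 := by
      rw [← Cfsg.Agent.Fischer.Fi23Simple.H_eq_index]
      exact Cfsg.Agent.Fischer.Fi23Simple.index_H
    have h' : (Cfsg.Agent.Fischer.Fi23Class.K).index = 31671 := h
    rw [h']; decide
  obtain ⟨S, hS⟩ := exists_sylow_le' hodd
  have zz : z0 * z0 = 1 := sq_D z0_mem_D
  have z1 : z0 ≠ 1 := ne_one_D z0_mem_D
  have hKc : Cfsg.Agent.Fischer.Fi23Class.K = centralizer ({z0} : Set Spor.Fi23) := by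
    ext x
    rw [mem_K_iff, mem_centralizer_singleton_iff]
  have hd : 3 ∣ Nat.card (centralizer ({z0} : Set Spor.Fi23)) := by
    rw [← hKc]
    refine dvd_trans ?_ (Subgroup.card_dvd_of_surjective _ pi_surjective)
    rw [Cfsg.Agent.R01.Fi22Facts.card]; norm_num
  obtain ⟨g, hg⟩ := exists_norm hy (by norm_num) zz z1 hd S
  have hy' := MinCex.conj hy g
  set c := g * y * g⁻¹ with hcdef
  have hSc : ∀ x ∈ S, x * z0 = z0 * x := fun x hx => (mem_K_iff x).1 (hS hx)
  have hz0S : z0 ∈ S := mem_of_central S zz hSc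
  set w := c * z0 * c⁻¹ with hw
  rw [mem_normalizer_iff] at hg
  have hwS : w ∈ S := (hg z0).1 hz0S
  have hwc : ∀ x ∈ S, x * w = w * x := by
    intro x hx
    have h2 : c⁻¹ * x * c ∈ (S : Subgroup Spor.Fi23) := by
      refine (hg _).2 ?_
      have : c * (c⁻¹ * x * c) * c⁻¹ = x := by group
      rw [this]; exact hx
    have h3 := hSc _ h2
    calc x * (c * z0 * c⁻¹) = c * ((c⁻¹ * x * c) * z0) * c⁻¹ := by group
      _ = c * (z0 * (c⁻¹ * x * c)) * c⁻¹ := by rw [h3]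
      _ = (c * z0 * c⁻¹) * x := by group
  have hwD : w ∈ D := conj_mem_D z0_mem_D c
  have hweq : w = z0 := by
    by_contra hne
    have hwK : w ∈ Cfsg.Agent.Fischer.Fi23Class.K := hS hwS
    have h1 : (⟨w, hwK⟩ : Cfsg.Agent.Fischer.Fi23Class.K) ∈ Cfsg.Agent.R08.FiTwentyThree.S := ⟨hwD, hne⟩
    obtain ⟨k, hk⟩ := mem_S_iff.1 h1
    have hT : pi ⟨w, hwK⟩ ∈ Cfsg.Agent.R01.Fi22Facts.T := by
      rw [← hk, map_mul, map_mul, map_inv]
      refine tf.conj _ _ ?_
      rw [pi_t]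
      exact Cfsg.Agent.R01.Fi22Facts.gen_mem .a
    set S₁ : Sylow 2 Cfsg.Agent.Fischer.Fi23Class.K := S.subtype hS with hS₁
    have hm : ∀ x : Cfsg.Agent.Fischer.Fi23Class.K, x ∈ S₁ ↔ (x : Spor.Fi23) ∈ S := by
      intro x
      show x ∈ ((S.subtype hS : Sylow 2 _) : Subgroup _) ↔ _
      rw [Sylow.coe_subtype, mem_subgroupOf]
      rfl
    refine not_mem_T (S₁.mapSurjective pi_surjective) (w := pi ⟨w, hwK⟩) ?_ ?_ hT
    · show pi ⟨w, hwK⟩ ∈ ((S₁.mapSurjective pi_surjective : Sylow 2 _) : Subgroup _)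
      rw [Sylow.coe_mapSurjective]
      exact mem_map_of_mem _ ((hm _).2 hwS)
    · intro x hx
      have hx' : x ∈ ((S₁.mapSurjective pi_surjective : Sylow 2 _) : Subgroup _) := hx
      rw [Sylow.coe_mapSurjective] at hx'
      obtain ⟨x, hx1, rfl⟩ := hx'
      have h5 : x * ⟨w, hwK⟩ = ⟨w, hwK⟩ * x := Subtype.ext (hwc _ ((hm _).1 hx1))
      have h6 := congrArg pi h5
      rw [map_mul, map_mul] at h6
      exact h6
  have hcz : c * z0 = z0 * c := by
    calc c * z0 = (c * z0 * c⁻¹) * c := by group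
      _ = z0 * c := by rw [← hw, hweq]
  have hcK : c ∈ Cfsg.Agent.Fischer.Fi23Class.K := (mem_K_iff c).2 hcz
  have hKt : Cfsg.Agent.Fischer.Fi23Class.K ≠ ⊤ := by
    rw [hKc]
    exact centralizer_ne_top hy z1
  have hna : ∃ a b : Spor.Fi22, a * b ≠ b * a := exists_ne_of_card (by
    rw [Cfsg.Agent.R01.Fi22Facts.card]; norm_num)
  have h1 := hom_eq_one hy' hcK hKt hna (by rw [Cfsg.Agent.R01.Fi22Facts.card]; norm_num) pi pi_surjective
  have h2 : c * c = 1 := by
    rcases (pi_ker _).1 h1 with h3 | h3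
    · have h4 : c = 1 := congrArg Subtype.val h3
      rw [h4, one_mul]
    · have h4 : c = z0 := congrArg Subtype.val h3
      rw [h4, zz]
  have h3 : orderOf c ∣ 2 := orderOf_dvd_of_pow_eq_one (by rw [pow_two]; exact h2)
  rw [hy'.ord] at h3
  norm_num at h3

/-- the row `Fi23` -/
theorem fi23 (h : Spor.IsoFi23 K) (hp : p.Prime) (hp2 : p ≠ 2) : Row.{u} p K := by
  refine row_spor hp hp2 (Cfsg.Agent.H256.OddInner.fi23 h) fun hfin _ _ _ hc y hy => ?_
  rw [Cfsg.Agent.NotCT.Orders.fi23 h] at hc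
  have hp3 : p = 3 := three_of_cube hp hp2 [(2, 18), (3, 13), (5, 2), (7, 1), (11, 1), (13, 1), (17, 1), (23, 1)]
    (by decide +kernel) (by norm_num) hc (by decide +kernel)
  subst hp3
  obtain ⟨e⟩ := h
  exact fi23_aux (MinCex.map hy e)

end Cfsg.Agent.H808.ZStarFi
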