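import Cfsg.Agent.NotCT.Fam
import Cfsg.Agent.H315.OrderCube

/-!
# Groups of Lie type with a small Sylow subgroup in the defining characteristic (helper808, for S4905)

* `card_lt_cube_two` : `|T| < |T|_2 ^ 3` in characteristic 2;
* `card_of_small_sylow` : if `9 ≤ |T|_p ≤ 18` then `|T| = |PSL_2(q)|`, `q = |T|_p`.
-/

set_option autoImplicit false

namespace Cfsg.Agent.H808.SmallSylow

open Cfsg Cfsg.Agent.NotCT

universe u

theorem card_lt_cube_two {T : Type u} [Group T] (h : IsLieTypeChar 2 T) :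
    Nat.card T < (ordProj[2] (Nat.card T)) ^ 3 :=
  Cfsg.Agent.H315.OrderCube.card_lt_cube Nat.prime_two h

theorem ordProj_eq {p : ℕ} (hp : p.Prime) {n a : ℕ} (hn : n ≠ 0) (h1 : p ^ a ∣ n) (h2 : ¬ p ^ (a + 1) ∣ n) :
    ordProj[p] n = p ^ a := by
  congr 1
  have h3 := (hp.pow_dvd_iff_le_factorization hn).1 h1
  have h4 : ¬ a + 1 ≤ n.factorization p := fun h => h2 ((hp.pow_dvd_iff_le_factorization hn).2 h)
  omega

/-- the types whose number of positive roots is at most 4 -/
theorem typ_small {p k : ℕ} {t : Typ} (hp : p.Prime) (hv : t.Valid p k) (h1 : 9 ≤ p ^ (k * t.N))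
    (h2 : p ^ (k * t.N) ≤ 18) : t = .L 2 := by
  have hk := one_le_k hv
  have hq2 : 2 ≤ p ^ k := (Nat.pow_le_pow_left hp.two_le k).trans' (by
    calc 2 = 2 ^ 1 := rfl
      _ ≤ 2 ^ k := Nat.pow_le_pow_right (by norm_num) hk)
  rw [pow_mul] at h1 h2
  set q := p ^ k with hq
  have hN : t.N ≤ 4 := by
    by_contra hcon
    push Not at hcon
    have h3 : 2 ^ 5 ≤ q ^ t.N := (Nat.pow_le_pow_left hq2 5).trans (Nat.pow_le_pow_right (by omega) hcon)
    omega
  -- no cubes and only `2^4`
  have h3 : t.N ≠ 3 := by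
    intro h
    rw [h] at h1 h2
    have h4 : q = 2 ∨ 3 ≤ q := by omega
    rcases h4 with h4 | h4
    · rw [h4] at h1; omega
    · have := Nat.pow_le_pow_left h4 3
      omega
  have h4 : t.N = 4 → q = 2 := by
    intro h
    rw [h] at h1 h2
    by_contra hcon
    have h4 : 3 ≤ q := by omega
    have := Nat.pow_le_pow_left h4 4
    omega
  cases t with
  | L n =>
    obtain ⟨-, hn, -⟩ := hv
    simp only [Typ.N] at hN h3
    have h5 : n < 4 := by
      by_contra hcon
      push Not at hcon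
      have : 4 * 3 ≤ n * (n - 1) := Nat.mul_le_mul hcon (by omega)
      omega
    interval_cases n
    · rfl
    · norm_num at h3
  | S m =>
    obtain ⟨-, hm, hm2⟩ := hv
    simp only [Typ.N] at hN h3 h4
    have h5 : m < 3 := by
      by_contra hcon
      push Not at hcon
      have := Nat.pow_le_pow_left hcon 2
      omega
    have h6 : m = 2 := by omega
    have h7 := h4 (by rw [h6]; norm_num)
    have h8 := hm2 h6
    omega
  | U n =>
    obtain ⟨-, hn, -⟩ := hv
    simp only [Typ.N] at hN h3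
    have h5 : n < 4 := by
      by_contra hcon
      push Not at hcon
      have : 4 * 3 ≤ n * (n - 1) := Nat.mul_le_mul hcon (by omega)
      omega
    interval_cases n
    norm_num at h3
  | OO m =>
    obtain ⟨-, hm, -⟩ := hv
    simp only [Typ.N] at hN
    have := Nat.pow_le_pow_left hm 2
    omega
  | OP m =>
    obtain ⟨-, hm⟩ := hv
    simp only [Typ.N] at hN
    have : 4 * 3 ≤ m * (m - 1) := Nat.mul_le_mul hm (by omega)
    omega
  | OM m =>
    obtain ⟨-, hm⟩ := hv
    simp only [Typ.N] at hN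
    have : 4 * 3 ≤ m * (m - 1) := Nat.mul_le_mul hm (by omega)
    omega
  | SZ =>
    obtain ⟨hp2, hk3, -⟩ := hv
    simp only [Typ.N] at h2
    have h5 : 2 ^ 3 ≤ q := by
      rw [hq, hp2]
      exact Nat.pow_le_pow_right (by norm_num) hk3
    have := Nat.pow_le_pow_left h5 2
    omega
  | RG => exact absurd rfl h3
  | _ => simp only [Typ.N] at hN; omega

theorem card_of_small_sylow {p : ℕ} (hp : p.Prime) {T : Type u} [Group T] [Finite T] [IsSimpleGroup T]
    (h : IsLieTypeChar p T) (h1 : 9 ≤ ordProj[p] (Nat.card T)) (h2 : ordProj[p] (Nat.card T) ≤ 18) :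
    Nat.card T * Nat.gcd 2 (ordProj[p] (Nat.card T) - 1) =
      ordProj[p] (Nat.card T) * ((ordProj[p] (Nat.card T)) ^ 2 - 1) := by
  obtain ⟨t, k, hv, ht⟩ := exists_typ hp h
  have ho := card_eq hp hv ht
  have h0 : ordProj[p] (Nat.card T) = p ^ (k * t.N) :=
    ordProj_eq hp Nat.card_pos.ne' (dvd_card hp hv ho) (not_dvd_card hp hv ho)
  rw [h0] at h1 h2 ⊢
  obtain rfl := typ_small hp hv h1 h2
  have h3 : (Typ.L 2).D (p ^ k) * Nat.card T = (p ^ k) ^ (Typ.L 2).N * (Typ.L 2).P (p ^ k) := ho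
  simp only [Typ.D, Typ.N, Typ.P, pA] at h3 ⊢
  norm_num at h3 ⊢
  rw [mul_comm]
  exact h3

end Cfsg.Agent.H808.SmallSylow
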