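import Cfsg.Agent.Schreier.Cases
import Cfsg.Agent.H358.TwoTransMod4
import Cfsg.Agent.H363.Frat

/-!
# Simple quotients of perfect groups (helper808, for S4905)

* `exists_simple_quotient` : a perfect finite group whose order is divisible by the prime `r` exactly once has a
  non-abelian simple quotient of order divisible by `r`;
* `prod_card_dvd` : the product of the indices of distinct normal subgroups with non-abelian simple quotients
  divides the order of the group.
-/

set_option autoImplicit false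
set_option linter.style.haveILetI false

namespace Cfsg.Agent.H808.SimpleQuot

open Cfsg Subgroup
open scoped commutatorElement

universe u

/-- the quotient by the preimage of a normal subgroup of a quotient -/
theorem quot_comap {H : Type u} [Group H] (N : Subgroup H) [N.Normal] (M : Subgroup (H ⧸ N)) [M.Normal] :
    Nonempty (H ⧸ M.comap (QuotientGroup.mk' N) ≃* (H ⧸ N) ⧸ M) := by
  have h1 : Function.Surjective ((QuotientGroup.mk' M).comp (QuotientGroup.mk' N)) :=
    (QuotientGroup.mk'_surjective M).comp (QuotientGroup.mk'_surjective N)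
  have h2 : M.comap (QuotientGroup.mk' N) = ((QuotientGroup.mk' M).comp (QuotientGroup.mk' N)).ker := by
    rw [← MonoidHom.comap_ker, QuotientGroup.ker_mk']
  exact ⟨(QuotientGroup.quotientMulEquivOfEq h2).trans (QuotientGroup.quotientKerEquivOfSurjective _ h1)⟩

theorem perfect_quot {H : Type u} [Group H] (hH : commutator H = ⊤) (N : Subgroup H) [N.Normal] :
    commutator (H ⧸ N) = ⊤ := by
  have h1 := map_commutator (⊤ : Subgroup H) ⊤ (QuotientGroup.mk' N)
  have h2 : ⁅(⊤ : Subgroup H), ⊤⁆ = ⊤ := hH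
  rw [h2, Subgroup.map_top_of_surjective _ (QuotientGroup.mk'_surjective N)] at h1
  exact h1.symm

theorem isMulCommutative_of_equiv {A B : Type*} [Group A] [Group B] (e : A ≃* B) (h : IsMulCommutative A) :
    IsMulCommutative B :=
  ⟨⟨fun a b => by
    have h1 := h.is_comm.comm (e.symm a) (e.symm b)
    simpa using congrArg e h1⟩⟩

/-- a perfect group has no normal subgroup of prime order `r` with index prime to `r` -/
theorem no_prime {H : Type u} [Group H] [Finite H] (hH : commutator H = ⊤) {r : ℕ} (hr : r.Prime) {N : Subgroup H}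
    (hN : N.Normal) (h1 : Nat.card N = r) (h2 : ¬ r ∣ N.index) : False := by
  have hf : Fact r.Prime := ⟨hr⟩
  have hcyc : IsCyclic N := isCyclic_of_prime_card h1
  -- the action on `N` is trivial
  have hab : ∀ a b : MulAut N, a * b = b * a := fun a b => by
    have h := (IsCyclic.mulAutMulEquiv N)
    exact h.injective (by rw [map_mul, map_mul, mul_comm])
  have hker : ∀ h : H, MulAut.conjNormal (H := N) h = 1 := by
    have h3 : commutator H ≤ (MulAut.conjNormal (H := N)).ker := by
      rw [commutator_def, Subgroup.commutator_le]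
      intro a _ b _
      rw [MonoidHom.mem_ker, map_commutatorElement, commutatorElement_eq_one_iff_mul_comm]
      exact hab _ _
    intro h
    have h4 : h ∈ commutator H := by rw [hH]; trivial
    exact h3 h4
  have hcen : ∀ n ∈ N, ∀ h : H, h * n = n * h := by
    intro n hn h
    have h3 := congrArg (fun φ : MulAut N => ((φ ⟨n, hn⟩ : N) : H)) (hker h)
    simp only [MulAut.conjNormal_apply, MulAut.one_apply] at h3
    calc h * n = (h * n * h⁻¹) * h := by group
      _ = n * h := by rw [h3]
  obtain ⟨K, hK⟩ := Subgroup.exists_right_complement'_of_coprime (N := N)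
    (by rw [h1]; exact (Nat.Prime.coprime_iff_not_dvd hr).2 h2)
  -- `K` is normal
  have hdec : ∀ h : H, ∃ n ∈ N, ∃ k ∈ K, h = n * k := by
    intro h
    obtain ⟨⟨n, k⟩, hnk⟩ := hK.2 h
    exact ⟨n, n.2, k, k.2, hnk.symm⟩
  have hKn : K.Normal := by
    constructor
    intro k hk h
    obtain ⟨n, hn, k', hk', rfl⟩ := hdec h
    have h3 : n * k' * k * (n * k')⁻¹ = k' * k * k'⁻¹ := by
      have h4 := hcen n hn (k' * k * k'⁻¹)
      calc n * k' * k * (n * k')⁻¹ = n * (k' * k * k'⁻¹) * n⁻¹ := by group
        _ = k' * k * k'⁻¹ := by rw [← h4]; group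
    rw [h3]
    exact K.mul_mem (K.mul_mem hk' hk) (K.inv_mem hk')
  have hcomm : commutator H ≤ K := by
    rw [commutator_def, Subgroup.commutator_le]
    intro a _ b _
    obtain ⟨n, hn, k, hk, rfl⟩ := hdec a
    obtain ⟨n', hn', k', hk', rfl⟩ := hdec b
    have h3 : ⁅(n * k : H), (n' * k' : H)⁆ = ⁅(k : H), (k' : H)⁆ := by
      have e1 := hcen n hn
      have e2 := hcen n' hn'
      rw [commutatorElement_def, commutatorElement_def]
      calc n * k * (n' * k') * (n * k)⁻¹ * (n' * k')⁻¹ = n * (k * n') * k' * k⁻¹ * n⁻¹ * k'⁻¹ * n'⁻¹ := by group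
        _ = n * (n' * k) * k' * k⁻¹ * n⁻¹ * k'⁻¹ * n'⁻¹ := by rw [e2 k]
        _ = (n * (n' * k * k' * k⁻¹)) * n⁻¹ * k'⁻¹ * n'⁻¹ := by group
        _ = ((n' * k * k' * k⁻¹) * n) * n⁻¹ * k'⁻¹ * n'⁻¹ := by rw [e1]
        _ = n' * (k * k' * k⁻¹ * k'⁻¹) * n'⁻¹ := by group
        _ = k * k' * k⁻¹ * k'⁻¹ := by rw [← e2]; group
    rw [h3, commutatorElement_def]
    exact K.mul_mem (K.mul_mem (K.mul_mem hk hk') (K.inv_mem hk)) (K.inv_mem hk')
  have hKtop : K = ⊤ := top_le_iff.1 (hH ▸ hcomm)
  have h5 := hK.card_mul_card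
  rw [hKtop, Subgroup.card_top, h1] at h5
  have h6 : 0 < Nat.card H := Nat.card_pos
  have h7 := hr.two_le
  nlinarith

/-- if `H` is perfect and the Schreier property holds for the simple normal subgroup `N`, then `H ⧸ C(N) ≃* N` -/
theorem quot_centralizer {H : Type u} [Group H] [Finite H] (hH : commutator H = ⊤) (N : Subgroup H) [N.Normal]
    (hs : IsSimpleGroup N) (hna : ¬ IsMulCommutative N) (hsch : Cfsg.Agent.Schreier.Basic.Sch N) :
    ∃ _ : (centralizer (N : Set H)).Normal, Nonempty (N ≃* H ⧸ centralizer (N : Set H)) := by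
  have hn : (centralizer (N : Set H)).Normal := inferInstance
  refine ⟨hn, ?_⟩
  set C := centralizer (N : Set H) with hC
  let f : N →* H ⧸ C := (QuotientGroup.mk' C).comp N.subtype
  -- injectivity
  have hinj : Function.Injective f := by
    rw [← MonoidHom.ker_eq_bot_iff]
    have h1 : f.ker ≤ center N := by
      intro x hx
      rw [MonoidHom.mem_ker, MonoidHom.comp_apply, QuotientGroup.mk'_apply, QuotientGroup.eq_one_iff] at hx
      rw [Subgroup.mem_center_iff]
      intro y
      have h2 := Subgroup.mem_centralizer_iff.1 hx (y : H) y.2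
      exact Subtype.ext h2
    have h2 : center N = ⊥ := by
      rcases hs.eq_bot_or_eq_top_of_normal (center N) inferInstance with h | h
      · exact h
      · exact absurd ⟨⟨fun a b => (Subgroup.mem_center_iff.1 (h ▸ Subgroup.mem_top b) a)⟩⟩ hna
    rw [h2] at h1
    exact le_bot_iff.1 h1
  -- surjectivity
  have hsurj : Function.Surjective f := by
    have h1 : (⊤ : Subgroup H).map (MulAut.conjNormal (H := N)) ≤ (MulAut.conj : N →* MulAut N).range :=
      hsch _ (Cfsg.Agent.Schreier.Basic.map_perfect _ hH)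
    intro y
    obtain ⟨h, rfl⟩ := QuotientGroup.mk'_surjective C y
    obtain ⟨n, hn⟩ := h1 ⟨h, trivial, rfl⟩
    refine ⟨n, ?_⟩
    show QuotientGroup.mk' C (n : H) = QuotientGroup.mk' C h
    rw [QuotientGroup.mk'_apply, QuotientGroup.mk'_apply, QuotientGroup.eq]
    rw [hC, Subgroup.mem_centralizer_iff]
    intro x hx
    have h2 := congrArg (fun φ : MulAut N => ((φ ⟨x, hx⟩ : N) : H)) hn
    simp only [MulAut.conj_apply, MulAut.conjNormal_apply, Subgroup.coe_mul, Subgroup.coe_inv] at h2
    calc x * ((n : H)⁻¹ * h) = (n : H)⁻¹ * (n * x * (n : H)⁻¹) * h := by group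
      _ = (n : H)⁻¹ * (h * x * h⁻¹) * h := by rw [h2]
      _ = (n : H)⁻¹ * h * x := by group
  exact ⟨MulEquiv.ofBijective f ⟨hinj, hsurj⟩⟩

theorem exists_simple_quotient {H : Type u} [Group H] [Finite H]
    (hkn : ∀ (X : Type u) [Group X] [Finite X] [IsSimpleGroup X], IsKnownSimple' X)
    (hS : Cfsg.Agent.Schreier.Cases.SchFor.{u} @IsKnownSimple')
    (hH : commutator H = ⊤) {r : ℕ} (hr : r.Prime) (h1 : r ∣ Nat.card H) (h2 : ¬ r ^ 2 ∣ Nat.card H) :
    ∃ M : Subgroup H, ∃ _ : M.Normal, IsSimpleGroup (H ⧸ M) ∧ ¬ IsMulCommutative (H ⧸ M) ∧ r ∣ Nat.card (H ⧸ M) := by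
  have key : ∀ (n : ℕ) (H : Type u) [Group H] [Finite H], Nat.card H = n → commutator H = ⊤ → r ∣ Nat.card H →
      ¬ r ^ 2 ∣ Nat.card H → ∃ M : Subgroup H, ∃ _ : M.Normal, IsSimpleGroup (H ⧸ M) ∧
        ¬ IsMulCommutative (H ⧸ M) ∧ r ∣ Nat.card (H ⧸ M) := by
    intro n
    induction n using Nat.strong_induction_on with
    | _ n ih =>
      intro H _ _ hn hH h1 h2
      have hnt : Nontrivial H := by
        rw [← Finite.one_lt_card_iff_nontrivial]
        exact lt_of_lt_of_le hr.one_lt (Nat.le_of_dvd Nat.card_pos h1)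
      obtain ⟨N, hN, hne, hmin⟩ := Cfsg.Agent.H358.TwoTransMod4.exists_min_normal H
      have hcard : Nat.card (H ⧸ N) * Nat.card N = Nat.card H :=
        (Subgroup.card_eq_card_quotient_mul_card_subgroup N).symm
      by_cases hrN : r ∣ Nat.card (H ⧸ N)
      · have hN1 : 1 < Nat.card N := by
          have := (Subgroup.one_lt_card_iff_ne_bot N).2 hne
          exact this
        have hlt : Nat.card (H ⧸ N) < n := by
          rw [← hn, ← hcard]
          have : 0 < Nat.card (H ⧸ N) := Nat.card_pos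
          nlinarith
        obtain ⟨M, hM, h3, h4, h5⟩ := ih _ hlt (H ⧸ N) rfl (perfect_quot hH N) hrN
          (fun h => h2 (h.trans (Dvd.intro _ hcard)))
        obtain ⟨e⟩ := quot_comap N M
        refine ⟨M.comap (QuotientGroup.mk' N), inferInstance, ?_, ?_, ?_⟩
        · exact Cfsg.Agent.Schreier.KBalance.isSimpleGroup_of_equiv e h3
        · exact fun h => h4 (isMulCommutative_of_equiv e h)
        · rw [Nat.card_congr e.toEquiv]; exact h5
      · have hrn : r ∣ Nat.card N := (hr.dvd_mul.1 (hcard.symm ▸ h1)).resolve_left hrN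
        have hs : IsSimpleGroup N := Cfsg.Agent.H363.Frat.isSimple_of_minimal N
          (fun L hL hLN => by
            by_cases h0 : L = ⊥
            · exact Or.inl h0
            · exact Or.inr (hmin L hL h0 hLN)) hr hrn
          (fun h => h2 (h.trans (Dvd.intro_left _ hcard)))
        by_cases hab : IsMulCommutative N
        · exfalso
          have hp : (Nat.card N).Prime := by
            letI : CommGroup N := { (inferInstance : Group N) with mul_comm := hab.is_comm.comm }
            exact IsSimpleGroup.prime_card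
          have h3 : Nat.card N = r := ((Nat.prime_dvd_prime_iff_eq hr hp).1 hrn).symm
          exact no_prime hH hr hN h3 (by rw [Subgroup.index_eq_card]; exact hrN)
        · obtain ⟨hCn, ⟨e⟩⟩ := quot_centralizer hH N hs hab (hS N hab (hkn N))
          refine ⟨centralizer (N : Set H), hCn, Cfsg.Agent.Schreier.KBalance.isSimpleGroup_of_equiv e.symm hs, ?_, ?_⟩
          · exact fun h => hab (isMulCommutative_of_equiv e.symm h)
          · rw [← Nat.card_congr e.toEquiv]; exact hrn
  exact key _ H rfl hH h1 h2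

/-- a normal subgroup with non-abelian simple quotient is meet-prime for normal subgroups -/
theorem le_of_inf_le {H : Type u} [Group H] {A B M : Subgroup H} (hA : A.Normal) (hB : B.Normal) (hM : M.Normal)
    (hs : IsSimpleGroup (H ⧸ M)) (hna : ¬ IsMulCommutative (H ⧸ M)) (h : A ⊓ B ≤ M) : A ≤ M ∨ B ≤ M := by
  by_contra hcon
  push Not at hcon
  have htop : ∀ C : Subgroup H, C.Normal → ¬ C ≤ M → C.map (QuotientGroup.mk' M) = ⊤ := by
    intro C hC hCM
    have h1 : (C.map (QuotientGroup.mk' M)).Normal := hC.map _ (QuotientGroup.mk'_surjective M)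
    rcases hs.eq_bot_or_eq_top_of_normal _ h1 with h2 | h2
    · rw [Subgroup.map_eq_bot_iff, QuotientGroup.ker_mk'] at h2
      exact absurd h2 hCM
    · exact h2
  have h1 := htop A hA hcon.1
  have h2 := htop B hB hcon.2
  apply hna
  refine ⟨⟨fun x y => ?_⟩⟩
  have hx : x ∈ A.map (QuotientGroup.mk' M) := h1 ▸ Subgroup.mem_top x
  have hy : y ∈ B.map (QuotientGroup.mk' M) := h2 ▸ Subgroup.mem_top y
  obtain ⟨a, ha, rfl⟩ := hx
  obtain ⟨b, hb, rfl⟩ := hy
  rw [← commutatorElement_eq_one_iff_mul_comm, ← map_commutatorElement, QuotientGroup.mk'_apply,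
    QuotientGroup.eq_one_iff]
  refine h (Subgroup.mem_inf.2 ⟨?_, ?_⟩)
  · rw [commutatorElement_def]
    have h3 := hA.conj_mem _ (A.inv_mem ha) b
    have h4 := A.mul_mem ha h3
    have h5 : a * b * a⁻¹ * b⁻¹ = a * (b * a⁻¹ * b⁻¹) := by group
    rw [h5]; exact h4
  · rw [commutatorElement_def]
    exact B.mul_mem (hB.conj_mem _ hb a) (B.inv_mem hb)

theorem eq_of_le {H : Type u} [Group H] {A M : Subgroup H} (hA : A.Normal) (hM : M.Normal)
    (hsA : IsSimpleGroup (H ⧸ A)) (hs : IsSimpleGroup (H ⧸ M)) (h : A ≤ M) : A = M := by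
  have h1 : (M.map (QuotientGroup.mk' A)).Normal := hM.map _ (QuotientGroup.mk'_surjective A)
  rcases hsA.eq_bot_or_eq_top_of_normal _ h1 with h2 | h2
  · rw [Subgroup.map_eq_bot_iff, QuotientGroup.ker_mk'] at h2
    exact le_antisymm h h2
  · exfalso
    have h3 : M = ⊤ := by
      have h4 := congrArg (Subgroup.comap (QuotientGroup.mk' A)) h2
      rw [Subgroup.comap_map_eq, QuotientGroup.ker_mk', Subgroup.comap_top, sup_eq_left.2 h] at h4
      exact h4
    have h4 : Nat.card (H ⧸ M) = 1 := by
      rw [← Subgroup.index_eq_card, h3, Subgroup.index_top]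
    have h5 : Subsingleton (H ⧸ M) := (Nat.card_eq_one_iff_unique.1 h4).1
    exact not_nontrivial_iff_subsingleton.2 h5 hs.toNontrivial

theorem prod_card_dvd {H : Type u} [Group H] [Finite H] (s : Finset (Subgroup H))
    (hs : ∀ M ∈ s, ∃ _ : M.Normal, IsSimpleGroup (H ⧸ M) ∧ ¬ IsMulCommutative (H ⧸ M)) :
    ∏ M ∈ s, M.index ∣ Nat.card H := by
  classical
  have key : ∀ s : Finset (Subgroup H), (∀ M ∈ s, ∃ _ : M.Normal, IsSimpleGroup (H ⧸ M) ∧
      ¬ IsMulCommutative (H ⧸ M)) → (s.inf id).Normal ∧ (s.inf id).index = ∏ M ∈ s, M.index ∧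
      ∀ M : Subgroup H, (∃ _ : M.Normal, IsSimpleGroup (H ⧸ M) ∧ ¬ IsMulCommutative (H ⧸ M)) → s.inf id ≤ M →
        M ∈ s := by
    intro s
    induction s using Finset.induction_on with
    | empty =>
      intro _
      refine ⟨by rw [Finset.inf_empty]; infer_instance, by rw [Finset.inf_empty]; simp, ?_⟩
      rintro M ⟨hM, h1, h2⟩ h3
      rw [Finset.inf_empty, top_le_iff] at h3
      exfalso
      have h4 : Nat.card (H ⧸ M) = 1 := by
        rw [← Subgroup.index_eq_card, h3, Subgroup.index_top]
      have h5 : Subsingleton (H ⧸ M) := (Nat.card_eq_one_iff_unique.1 h4).1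
      exact not_nontrivial_iff_subsingleton.2 h5 h1.toNontrivial
    | insert M s hMs ih =>
      intro hs
      obtain ⟨h1, h2, h3⟩ := ih (fun N hN => hs N (Finset.mem_insert_of_mem hN))
      obtain ⟨hM, hM1, hM2⟩ := hs M (Finset.mem_insert_self M s)
      set A := s.inf id with hA
      have hAM : ¬ A ≤ M := fun h => hMs (h3 M ⟨hM, hM1, hM2⟩ h)
      have hinf : (insert M s).inf id = M ⊓ A := by rw [Finset.inf_insert]; rfl
      have hsup : A ⊔ M = ⊤ := by
        have h4 : (A.map (QuotientGroup.mk' M)).Normal := h1.map _ (QuotientGroup.mk'_surjective M)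
        rcases hM1.eq_bot_or_eq_top_of_normal _ h4 with h5 | h5
        · rw [Subgroup.map_eq_bot_iff, QuotientGroup.ker_mk'] at h5
          exact absurd h5 hAM
        · have h6 := congrArg (Subgroup.comap (QuotientGroup.mk' M)) h5
          rwa [Subgroup.comap_map_eq, QuotientGroup.ker_mk', Subgroup.comap_top] at h6
      refine ⟨by rw [hinf]; infer_instance, ?_, ?_⟩
      · rw [hinf, Finset.prod_insert hMs, ← h2, ← Subgroup.relIndex_mul_index (H := M ⊓ A) (K := A) inf_le_right,
          Subgroup.inf_relIndex_right]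
        congr 1
        rw [← Subgroup.relIndex_sup_right, hsup, Subgroup.relIndex_top_right]
      · rintro N ⟨hN, hN1, hN2⟩ hle
        rw [hinf] at hle
        rcases le_of_inf_le hM h1 hN hN1 hN2 hle with h4 | h4
        · rw [← eq_of_le hM hN hM1 hN1 h4]
          exact Finset.mem_insert_self M s
        · exact Finset.mem_insert_of_mem (h3 N ⟨hN, hN1, hN2⟩ h4)
  obtain ⟨h1, h2, -⟩ := key s hs
  rw [← h2]
  exact Subgroup.index_dvd_card _

end Cfsg.Agent.H808.SimpleQuot
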