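import Cfsg.Agent.H808.GoodNum

/-!
# Complemented subgroup lattices of sporadic groups: the cores (helper808, S5900)

The orders, the Schur multipliers, the order table and the classification are hypotheses; see `ClSpor`.
-/

set_option autoImplicit false
set_option linter.style.haveILetI false
set_option linter.unusedSectionVars false

namespace Cfsg.Agent.H808.ClCore

open Subgroup Cfsg Cfsg.Agent.OrdDiv Cfsg.Agent.H808.GoodCL Cfsg.Agent.H808.GoodNum Cfsg.Agent.H939.KLat

/-- the Schur multipliers of the linear groups (S2086) -/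
def MultPSL : Prop :=
  ∀ {F : Type} [Field F] [Fintype F] {q : ℕ}, Fintype.card F = q → ∀ n : ℕ, 2 ≤ n → (n = 2 → 4 ≤ q) →
    (n, q) ∉ ({(2, 4), (2, 9), (3, 2), (3, 4), (4, 2)} : Set (ℕ × ℕ)) →
    HasCyclicSchurMultiplier (Matrix.ProjectiveSpecialLinearGroup (Fin n) F) (Nat.gcd n (q - 1))

/-- the Schur multipliers of the unitary groups (S2089) -/
def MultPSU : Prop :=
  ∀ {F : Type} [Field F] [Fintype F] (n q : ℕ), Fintype.card F = q ^ 2 → 3 ≤ n → ¬ (n = 3 ∧ q = 2) →
    (n, q) ∉ ({(4, 2), (4, 3), (6, 2)} : Set (ℕ × ℕ)) → HasCyclicSchurMultiplier (PSU n F q) (Nat.gcd n (q + 1))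

/-- a simple group of composite order is not commutative -/
theorem not_comm {G : Type} [Group G] [Finite G] [IsSimpleGroup G] {N p : ℕ} (hN : Nat.card G = N) (hp : p.Prime)
    (h1 : p ∣ N) (hne : p ≠ N) : ¬ IsMulCommutative G := by
  intro h
  have hc : (Nat.card G).Prime := by
    letI : CommGroup G := { (inferInstance : Group G) with mul_comm := h.is_comm.comm }
    exact IsSimpleGroup.prime_card
  rw [hN] at hc
  exact hne ((Nat.prime_dvd_prime_iff_eq hp hc).1 h1)

theorem one_or_prime {n : ℕ} {p : ℕ} (hp : p.Prime) (h : n ∣ p) : n = 1 ∨ n.Prime := by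
  rcases (Nat.dvd_prime hp).1 h with h | h
  · exact Or.inl h
  · exact Or.inr (h ▸ hp)

/-- the center of a `Qs` group with quotient `L_n(q)` -/
theorem center_psl (M : MultPSL) {G : Type} [Group G] [Finite G] {p : ℕ} {Y : Subgroup G} (hY : Qs p Y) {n q : ℕ}
    (hn : 2 ≤ n) (h2 : n = 2 → 4 ≤ q) (hexc : (n, q) ∉ ({(2, 4), (2, 9), (3, 2), (3, 4), (4, 2)} : Set (ℕ × ℕ)))
    (hr : Real (.psl n q) (Y ⧸ center Y)) : Nat.card (center Y) ∣ Nat.gcd n (q - 1) := by
  obtain ⟨F, hF, hF', hc, ⟨e⟩⟩ := hr
  exact card_center_dvd hY.perf e (Nat.gcd_pos_of_pos_left _ (by omega)) (M hc n hn h2 hexc)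

/-- the center of a `Qs` group with quotient `U_n(q)` -/
theorem center_psu (M : MultPSU) {G : Type} [Group G] [Finite G] {p : ℕ} {Y : Subgroup G} (hY : Qs p Y) {n q : ℕ}
    (hn : 3 ≤ n) (h2 : ¬ (n = 3 ∧ q = 2)) (hexc : (n, q) ∉ ({(4, 2), (4, 3), (6, 2)} : Set (ℕ × ℕ)))
    (hr : Real (.psu n q) (Y ⧸ center Y)) : Nat.card (center Y) ∣ Nat.gcd n (q + 1) := by
  obtain ⟨F, hF, hF', hc, ⟨e⟩⟩ := hr
  exact card_center_dvd hY.perf e (Nat.gcd_pos_of_pos_left _ (by omega)) (M n q hc hn h2 hexc)

/-- the center has odd order if `p` does not divide the orders of the centralizers of the involutions -/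
theorem odd_center {G : Type} [Group G] [Finite G] {p : ℕ} (hC : ∀ z : G, orderOf z = 2 →
      ¬ p ∣ Nat.card (centralizer ({z} : Set G))) {Y : Subgroup G} (hY : Qs p Y) : ¬ 2 ∣ Nat.card (center Y) := by
  intro h
  have : Fact (Nat.Prime 2) := ⟨Nat.prime_two⟩
  obtain ⟨z, hz⟩ := exists_prime_orderOf_dvd_card' 2 h
  apply hC ((z : Y) : G) (by rw [Subgroup.orderOf_coe, Subgroup.orderOf_coe, hz])
  refine hY.dvd.trans (Subgroup.card_dvd_of_le fun y hy => ?_)
  rw [mem_centralizer_singleton_iff]
  exact congrArg (fun w : Y => (w : G)) (mem_center_iff.1 z.2 ⟨y, hy⟩)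

section

variable {G : Type} [Group G] [Finite G] [IsSimpleGroup G]

/-- **J1** -/
theorem cl_j1 (hN : Nat.card G = 175560) (T : OrderTable.{0}) (hK : Known.{0}) (hb : Below (Nat.card G)) : CL G := by
  have hp : Nat.Prime 19 := by norm_num
  exact cl_of_none (not_comm hN hp (by norm_num) (by norm_num)) hb T hK hN
    [(2,3),(3,1),(5,1),(7,1),(11,1),(19,1)] (by decide +kernel) hp (by norm_num) (by norm_num) (by decide +kernel)
    (by decide +kernel)

/-- **Ly** -/
theorem cl_ly (hN : Nat.card G = 51765179004000000) (T : OrderTable.{0}) (hK : Known.{0}) (hb : Below (Nat.card G)) :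
    CL G := by
  have hp : Nat.Prime 67 := by norm_num
  exact cl_of_none (not_comm hN hp (by norm_num) (by norm_num)) hb T hK hN
    [(2,8),(3,7),(5,6),(7,1),(11,1),(31,1),(37,1),(67,1)] (by decide +kernel) hp (by norm_num) (by norm_num)
    (by decide +kernel) (by decide +kernel)

/-- **J3** -/
theorem cl_j3 (hN : Nat.card G = 50232960) (T : OrderTable.{0}) (hK : Known.{0}) (M : MultPSL)
    (hb : Below (Nat.card G)) : CL G := by
  have hp : Nat.Prime 19 := by norm_num
  refine cl_of_list (not_comm hN hp (by norm_num) (by norm_num)) hb T hK hN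
    [(2,7),(3,5),(5,1),(17,1),(19,1)] (by decide +kernel) hp (by norm_num) (by norm_num)
    (by decide +kernel) fun Y hY g hg hr _ => ?_
  rw [show qc [(2,7),(3,5),(5,1),(17,1),(19,1)] 50232960 19 = [.psl 2 19] by decide +kernel, List.mem_singleton] at hg
  subst hg
  exact one_or_prime Nat.prime_two ((center_psl M hY le_rfl (by norm_num) (by simp) hr).trans (by norm_num))

/-- **J4** -/
theorem cl_j4 (hN : Nat.card G = 86775571046077562880) (T : OrderTable.{0}) (hK : Known.{0}) (M : MultPSL)
    (hb : Below (Nat.card G)) : CL G := by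
  have hp : Nat.Prime 29 := by norm_num
  refine cl_of_list (not_comm hN hp (by norm_num) (by norm_num)) hb T hK hN
    [(2,21),(3,3),(5,1),(7,1),(11,3),(23,1),(29,1),(31,1),(37,1),(43,1)] (by decide +kernel) hp (by norm_num)
    (by norm_num) (by decide +kernel) fun Y hY g hg hr _ => ?_
  rw [show qc [(2,21),(3,3),(5,1),(7,1),(11,3),(23,1),(29,1),(31,1),(37,1),(43,1)] 86775571046077562880 29 =
    [.psl 2 29] by decide +kernel, List.mem_singleton] at hg
  subst hg
  exact one_or_prime Nat.prime_two ((center_psl M hY le_rfl (by norm_num) (by simp) hr).trans (by norm_num))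

/-- **Th** -/
theorem cl_th (hN : Nat.card G = 90745943887872000) (T : OrderTable.{0}) (hK : Known.{0}) (M : MultPSL)
    (M' : MultPSU) (hb : Below (Nat.card G)) : CL G := by
  have hp : Nat.Prime 19 := by norm_num
  refine cl_of_list (not_comm hN hp (by norm_num) (by norm_num)) hb T hK hN
    [(2,15),(3,10),(5,3),(7,2),(13,1),(19,1),(31,1)] (by decide +kernel) hp (by norm_num) (by norm_num)
    (by decide +kernel) fun Y hY g hg hr _ => ?_
  rw [show qc [(2,15),(3,10),(5,3),(7,2),(13,1),(19,1),(31,1)] 90745943887872000 19 =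
    [.psl 2 19, .psu 3 8] by decide +kernel, List.mem_cons, List.mem_singleton] at hg
  rcases hg with rfl | rfl
  · exact one_or_prime Nat.prime_two ((center_psl M hY le_rfl (by norm_num) (by simp) hr).trans (by norm_num))
  · exact one_or_prime Nat.prime_three ((center_psu M' hY le_rfl (by norm_num) (by simp) hr).trans (by norm_num))

/-- **J2**, from the subgroup `U_3(3)` -/
theorem cl_j2 (hN : Nat.card G = 604800) (T : OrderTable.{0}) (hK : Known.{0}) {X : Subgroup G}
    (hXs : IsSimpleGroup X) (hXc : Nat.card X = 6048) (hb : Below (Nat.card G)) : CL G := by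
  have h7 : Nat.Prime 7 := by norm_num
  exact cl_of_simple_num hb T hK hN hXs (not_comm hXc h7 (by norm_num) (by norm_num)) hXc
    (m := 100) (by norm_num) (by norm_num) [(2,7),(3,3),(5,2),(7,1)] (by decide +kernel) h7 (by norm_num) (by norm_num)
    h7 (by norm_num) (by norm_num) [(2,2),(5,2)] (by decide +kernel) (by decide +kernel) (by decide +kernel)

/-- **HN**, from the subgroup `A_12` -/
theorem cl_hn (hN : Nat.card G = 273030912000000) (T : OrderTable.{0}) (hK : Known.{0}) {X : Subgroup G}
    (hXs : IsSimpleGroup X) (hXc : Nat.card X = 239500800) (hb : Below (Nat.card G)) : CL G := by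
  have hp : Nat.Prime 11 := by norm_num
  exact cl_of_simple_num hb T hK hN hXs (not_comm hXc hp (by norm_num) (by norm_num)) hXc
    (m := 1140000) (by norm_num) (by norm_num) [(2,14),(3,6),(5,6),(7,1),(11,1),(19,1)] (by decide +kernel) hp
    (by norm_num) (by norm_num) hp (by norm_num) (by norm_num) [(2,5),(3,1),(5,4),(19,1)] (by decide +kernel)
    (by decide +kernel) (by decide +kernel)

/-- **ON** -/
theorem cl_on (hN : Nat.card G = 460815505920) (T : OrderTable.{0}) (hK : Known.{0}) (M : MultPSL)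
    (m11 : HasCyclicSchurMultiplier ↥Spor.M11 1) (m12 : HasCyclicSchurMultiplier ↥Spor.M12 2)
    (m22 : HasCyclicSchurMultiplier ↥Spor.M22 12) (mj1 : HasCyclicSchurMultiplier ↥Spor.J1 1)
    (hC : ∀ z : G, orderOf z = 2 → Nat.card (centralizer ({z} : Set G)) = 161280)
    (hb : Below (Nat.card G)) : CL G := by
  have hp : Nat.Prime 11 := by norm_num
  refine cl_of_list (not_comm hN hp (by norm_num) (by norm_num)) hb T hK hN
    [(2,9),(3,4),(5,1),(7,3),(11,1),(19,1),(31,1)] (by decide +kernel) hp (by norm_num) (by norm_num)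
    (by decide +kernel) fun Y hY g hg hr _ => ?_
  have hodd : ¬ 2 ∣ Nat.card (center Y) := odd_center (fun z hz => by rw [hC z hz]; norm_num) hY
  have key : Nat.card (center Y) ∣ 12 := by
    rw [show qc [(2,9),(3,4),(5,1),(7,3),(11,1),(19,1),(31,1)] 460815505920 11 =
      [.psl 2 32, .psl 2 11, .m11, .m12, .m22, .j1] by decide +kernel] at hg
    simp only [List.mem_cons, List.not_mem_nil, or_false] at hg
    rcases hg with rfl | rfl | rfl | rfl | rfl | rfl
    · exact (center_psl M hY le_rfl (by norm_num) (by simp) hr).trans (by norm_num)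
    · exact (center_psl M hY le_rfl (by norm_num) (by simp) hr).trans (by norm_num)
    · obtain ⟨e⟩ := hr
      exact (card_center_dvd hY.perf e (by norm_num) m11).trans (by norm_num)
    · obtain ⟨e⟩ := hr
      exact (card_center_dvd hY.perf e (by norm_num) m12).trans (by norm_num)
    · obtain ⟨e⟩ := hr
      exact (card_center_dvd hY.perf e (by norm_num) m22).trans (by norm_num)
    · obtain ⟨e⟩ := hr
      exact (card_center_dvd hY.perf e (by norm_num) mj1).trans (by norm_num)
  have h1 : Nat.card (center Y) ∈ Nat.divisors 12 := Nat.mem_divisors.2 ⟨key, by norm_num⟩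
  rw [show Nat.divisors 12 = {1, 2, 3, 4, 6, 12} by decide +kernel] at h1
  simp only [Finset.mem_insert, Finset.mem_singleton] at h1
  rcases h1 with h1 | h1 | h1 | h1 | h1 | h1
  · exact Or.inl h1
  · exact absurd (h1 ▸ by norm_num) hodd
  · exact Or.inr (h1 ▸ Nat.prime_three)
  · exact absurd (h1 ▸ by norm_num) hodd
  · exact absurd (h1 ▸ by norm_num) hodd
  · exact absurd (h1 ▸ by norm_num) hodd

end

end Cfsg.Agent.H808.ClCore
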