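import Cfsg.Agent.H808.ClCore
import Cfsg.Agent.S0283
import Cfsg.Agent.S1624
import Cfsg.Agent.HN.A12Group
import Cfsg.Agent.KFacts.ON.OneClass

/-!
# The subgroups of J2 and HN and the involution centralizers of ON used in `ClCore` (helper808, S5900)
-/

set_option autoImplicit false
set_option linter.style.haveILetI false

namespace Cfsg.Agent.H808.ClParts

open Subgroup Cfsg

variable {G : Type} [Group G] [Finite G]

/-- J2 contains `U_3(3)` -/
theorem exists_j2 (h : Spor.IsoJ2 G) (hN : Nat.card G = 604800) :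
    ∃ X : Subgroup G, IsSimpleGroup X ∧ Nat.card X = 6048 := by
  obtain ⟨H, hi, ⟨F, hF, hF', hc, ⟨e⟩⟩, -⟩ := Cfsg.Agent.S1624.result
  obtain ⟨f⟩ := h
  have hfin : Finite Spor.J2 := Finite.of_equiv _ f.toEquiv
  have hs : IsSimpleGroup (Cfsg.PSU 3 F 3) :=
    Cfsg.Agent.S0283.result (q := 3) (by rw [hc]; norm_num) 3 le_rfl (by norm_num)
  have hHc : Nat.card H = 6048 := by
    have h1 := Subgroup.card_mul_index H
    rw [hi, ← Nat.card_congr f.toEquiv, hN] at h1
    omega
  let X : Subgroup G := H.map f.symm.toMonoidHom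
  have eX : H ≃* X := Subgroup.equivMapOfInjective H f.symm.toMonoidHom f.symm.injective
  exact ⟨X, (eX.symm.trans e).isSimpleGroup, by rw [← Nat.card_congr eX.toEquiv, hHc]⟩

/-- HN contains `A_12` -/
theorem exists_hn [IsSimpleGroup G] (h : Spor.IsoHN G) (hN : Nat.card G = 273030912000000) :
    ∃ X : Subgroup G, IsSimpleGroup X ∧ Nat.card X = 239500800 := by
  obtain ⟨f⟩ := h
  have hs : IsSimpleGroup Spor.HN := f.symm.isSimpleGroup
  have hc : Nat.card Spor.HN = 273030912000000 := by rw [← Nat.card_congr f.toEquiv, hN]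
  obtain ⟨H, hi, ⟨e⟩⟩ := Cfsg.Agent.HN.A12Group.exists_perm_group ⟨hs, hc⟩
  have hfin : Finite Spor.HN := Finite.of_equiv _ f.toEquiv
  have hHc : Nat.card H = 239500800 := by
    have h1 := Subgroup.card_mul_index H
    rw [hi, hc] at h1
    omega
  let X : Subgroup G := H.map f.symm.toMonoidHom
  have eX : H ≃* X := Subgroup.equivMapOfInjective H f.symm.toMonoidHom f.symm.injective
  have hA : IsSimpleGroup (alternatingGroup (Fin 12)) := alternatingGroup.isSimpleGroup (by simp)
  exact ⟨X, (eX.symm.trans e).isSimpleGroup, by rw [← Nat.card_congr eX.toEquiv, hHc]⟩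

/-- the involution centralizers of ON -/
theorem cent_on (h : Spor.IsoON G) (z : G) (hz : orderOf z = 2) :
    Nat.card (centralizer ({z} : Set G)) = 161280 := by
  obtain ⟨f⟩ := h
  have h1 : f z * f z = 1 := by
    rw [← map_mul, ← pow_two, ← hz, pow_orderOf_eq_one, map_one]
  have h2 : f z ≠ 1 := by
    intro h0
    have h3 : z = 1 := f.injective (h0.trans (map_one f).symm)
    rw [h3, orderOf_one] at hz
    omega
  have h3 := Cfsg.Agent.KFacts.ON.OneClass.one_class h1 h2
  obtain ⟨g, hg⟩ := isConj_iff.1 h3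
  let φ : G ≃* Spor.ON := f.trans (MulAut.conj g)
  have hφ : φ z = _ := hg
  rw [← Cfsg.Agent.KFacts.ON.Cent.card_cent, ← hφ]
  refine Nat.card_congr ⟨fun x => ⟨φ x, ?_⟩, fun x => ⟨φ.symm x, ?_⟩, ?_, ?_⟩
  · rw [mem_centralizer_singleton_iff, ← map_mul, ← map_mul, mem_centralizer_singleton_iff.1 x.2]
  · rw [mem_centralizer_singleton_iff]
    apply φ.injective
    rw [map_mul, map_mul, φ.apply_symm_apply]
    exact mem_centralizer_singleton_iff.1 x.2
  · intro x
    exact Subtype.ext (φ.symm_apply_apply _)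
  · intro x
    exact Subtype.ext (φ.apply_symm_apply _)

end Cfsg.Agent.H808.ClParts
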