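import Cfsg.Agent.H808.ClCore

/-!
# Complemented subgroup lattices: the Tits group, core (helper808, S5900)

An element of order 13 could act on an elementary abelian group of order 27; it does not since the Sylow 3-subgroups
are not abelian.
-/

set_option autoImplicit false
set_option linter.style.haveILetI false
set_option linter.unusedSectionVars false

namespace Cfsg.Agent.H808.ClTitsCore

open Subgroup MulAction Cfsg Cfsg.Agent.OrdDiv Cfsg.Agent.H808.GoodPrime Cfsg.Agent.H808.GoodCL
  Cfsg.Agent.H808.GoodNum Cfsg.Agent.H939.KLat Cfsg.Agent.H808.ClCore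

universe u

/-! ### coprime action, refined -/

section action

variable {K : Type u} [Group K] [Finite K]

/-- the order of the fixed points -/
theorem card_fix {s r : ℕ} (hs : s.Prime) (hr : r.Prime) (hsr : s ≠ r) {x : K} (hx : orderOf x = s)
    {P : Subgroup K} {k : ℕ} (hP : Nat.card P = r ^ k) (hnorm : ∀ y ∈ P, x * y * x⁻¹ ∈ P) :
    ∃ j, j ≤ k ∧ Nat.card (P ⊓ centralizer {x} : Subgroup K) = r ^ j ∧ s ∣ r ^ (k - j) - 1 := by
  have hfs : Fact s.Prime := ⟨hs⟩
  have hfr : Fact r.Prime := ⟨hr⟩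
  have hz : ∀ g ∈ zpowers x, ∀ y ∈ P, g * y * g⁻¹ ∈ P := by
    intro g hg
    have hxN : x ∈ normalizer (P : Set K) := by
      rw [mem_normalizer_iff]
      have hmap : P.map (MulAut.conj x).toMonoidHom = P := by
        apply Subgroup.eq_of_le_of_card_ge
        · rintro _ ⟨y, hy, rfl⟩
          exact hnorm y hy
        · have h0 : Nat.card (P.map (MulAut.conj x).toMonoidHom) = Nat.card P :=
            (Nat.card_congr (Subgroup.equivMapOfInjective P (MulAut.conj x).toMonoidHom
              (MulAut.conj x).injective).toEquiv).symm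
          rw [h0]
      intro y
      constructor
      · exact hnorm y
      · intro hy
        rw [← hmap] at hy
        obtain ⟨z, hz, hzy⟩ := hy
        have : z = y := by
          have h1 : x * z * x⁻¹ = x * y * x⁻¹ := hzy
          exact mul_left_cancel (mul_right_cancel h1)
        rwa [← this]
    have h1 : g ∈ normalizer (P : Set K) := (zpowers_le.2 hxN) hg
    intro y hy
    exact (mem_normalizer_iff.1 h1 y).1 hy
  letI act : MulAction (zpowers x) P :=
    { smul := fun g y => ⟨(g : K) * y * (g : K)⁻¹, hz g g.2 y y.2⟩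
      one_smul := fun y => Subtype.ext (by show (1 : K) * y * (1 : K)⁻¹ = y; simp)
      mul_smul := fun g g' y => Subtype.ext (by
        show ((g : K) * g') * y * ((g : K) * g')⁻¹ = g * (g' * y * (g' : K)⁻¹) * (g : K)⁻¹
        group) }
  have hact : ∀ (g : zpowers x) (y : P), ((g • y : P) : K) = g * y * (g : K)⁻¹ := fun _ _ => rfl
  have hpg : IsPGroup s (zpowers x) := IsPGroup.of_card (n := 1) (by rw [Nat.card_zpowers, hx, pow_one])
  have hmod := hpg.card_modEq_card_fixedPoints (α := P)
  have hfix : ∀ y : P, y ∈ fixedPoints (zpowers x) P ↔ (y : K) ∈ centralizer ({x} : Set K) := by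
    intro y
    rw [mem_fixedPoints]
    constructor
    · intro h1
      have h2 := congrArg Subtype.val (h1 ⟨x, mem_zpowers x⟩)
      rw [hact] at h2
      rw [mem_centralizer_singleton_iff]
      have h3 : x * (y : K) * x⁻¹ = y := h2
      have h4 : x * (y : K) = y * x := by
        calc x * (y : K) = x * (y : K) * x⁻¹ * x := by group
          _ = y * x := by rw [h3]
      exact h4.symm
    · intro h1 g
      rw [mem_centralizer_singleton_iff] at h1
      apply Subtype.ext
      rw [hact]
      obtain ⟨k, hk⟩ := mem_zpowers_iff.1 g.2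
      have h2 : Commute (y : K) (g : K) := by
        rw [← hk]
        exact Commute.zpow_right h1 k
      rw [← h2.eq, mul_inv_cancel_right]
  let C : Subgroup K := P ⊓ centralizer {x}
  have hcard : Nat.card (fixedPoints (zpowers x) P) = Nat.card C := by
    refine Nat.card_congr ⟨fun y => ⟨y.1.1, y.1.2, (hfix y.1).1 y.2⟩, fun y => ⟨⟨y.1, y.2.1⟩, (hfix _).2 y.2.2⟩, ?_, ?_⟩
    · intro y; rfl
    · intro y; rfl
  have hCd : Nat.card C ∣ r ^ k := by
    rw [← hP]
    exact Subgroup.card_dvd_of_le inf_le_left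
  obtain ⟨j, hjk, hj⟩ := (Nat.dvd_prime_pow hr).1 hCd
  rw [hcard, hj, hP] at hmod
  refine ⟨j, hjk, hj, ?_⟩
  have h1 : s ∣ r ^ k - r ^ j := (Nat.modEq_iff_dvd' (Nat.pow_le_pow_right hr.pos hjk)).1 hmod.symm
  have h2 : r ^ k - r ^ j = r ^ j * (r ^ (k - j) - 1) := by
    rw [Nat.mul_sub, ← pow_add, mul_one]
    congr 2
    omega
  rw [h2] at h1
  rcases hs.dvd_mul.1 h1 with h3 | h3
  · exact absurd ((Nat.prime_dvd_prime_iff_eq hs hr).1 (hs.dvd_of_dvd_pow h3)) hsr
  · exact h3

/-- an element of prime order `s` centralises a nonabelian group of order `r ^ k` if `k` is the least exponent with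
`s ∣ r ^ k - 1` -/
theorem mem_cent_of_nonab {s r : ℕ} (hs : s.Prime) (hr : r.Prime) (hsr : s ≠ r) {x : K} (hx : orderOf x = s)
    {P : Subgroup K} {k : ℕ} (hP : Nat.card P = r ^ k) (hnorm : ∀ y ∈ P, x * y * x⁻¹ ∈ P)
    (h : ∀ j, 0 < j → j < k → ¬ s ∣ r ^ j - 1) (hna : ¬ ∀ a ∈ P, ∀ b ∈ P, a * b = b * a) : P ≤ centralizer {x} := by
  have hfr : Fact r.Prime := ⟨hr⟩
  -- the center
  let Z : Subgroup K := (center P).map P.subtype
  have hZP : Z ≤ P := Subgroup.map_subtype_le _
  have hZc : Nat.card Z = Nat.card (center P) :=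
    (Nat.card_congr (Subgroup.equivMapOfInjective (center P) _ P.subtype_injective).toEquiv).symm
  have hPg : IsPGroup r P := IsPGroup.of_card hP
  have hPnt : Nontrivial P := by
    by_contra hno
    rw [not_nontrivial_iff_subsingleton] at hno
    apply hna
    intro a ha b hb
    have h1 : (⟨a, ha⟩ : P) * ⟨b, hb⟩ = ⟨b, hb⟩ * ⟨a, ha⟩ := Subsingleton.elim _ _
    exact congrArg Subtype.val h1
  have hZnt : Nontrivial (center P) := hPg.center_nontrivial
  obtain ⟨i, hik, hi⟩ := (Nat.dvd_prime_pow hr).1 (show Nat.card Z ∣ r ^ k by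
    rw [← hP]; exact Subgroup.card_dvd_of_le hZP)
  have hi0 : 0 < i := by
    rcases Nat.eq_zero_or_pos i with h0 | h0
    · exfalso
      rw [h0, pow_zero, hZc] at hi
      have := Finite.one_lt_card_iff_nontrivial.2 hZnt
      omega
    · exact h0
  have hik' : i < k := by
    refine lt_of_le_of_ne hik fun h0 => hna ?_
    have h1 : Z = P := by
      apply Subgroup.eq_of_le_of_card_ge hZP
      rw [hi, h0, hP]
    intro a ha b hb
    rw [← h1] at ha
    obtain ⟨a', ha', rfl⟩ := ha
    exact (congrArg Subtype.val (mem_center_iff.1 ha' ⟨b, hb⟩)).symm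
  have hZnorm : ∀ y ∈ Z, x * y * x⁻¹ ∈ Z := by
    rintro _ ⟨z, hz, rfl⟩
    refine ⟨⟨x * z * x⁻¹, hnorm z z.2⟩, ?_, rfl⟩
    rw [SetLike.mem_coe, mem_center_iff]
    intro g
    apply Subtype.ext
    show (g : K) * (x * z * x⁻¹) = x * z * x⁻¹ * g
    -- `x⁻¹ g x ∈ P`
    have hmap : P.map (MulAut.conj x).toMonoidHom = P := by
      apply Subgroup.eq_of_le_of_card_ge
      · rintro _ ⟨y, hy, rfl⟩
        exact hnorm y hy
      · have h0 : Nat.card (P.map (MulAut.conj x).toMonoidHom) = Nat.card P :=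
          (Nat.card_congr (Subgroup.equivMapOfInjective P (MulAut.conj x).toMonoidHom
            (MulAut.conj x).injective).toEquiv).symm
        rw [h0]
    obtain ⟨g', hg', hg⟩ : (g : K) ∈ P.map (MulAut.conj x).toMonoidHom := by rw [hmap]; exact g.2
    have h1 : x * g' * x⁻¹ = g := hg
    have h2 : g' * (z : K) = z * g' := congrArg Subtype.val (mem_center_iff.1 hz ⟨g', hg'⟩)
    calc (g : K) * (x * z * x⁻¹) = x * (g' * z) * x⁻¹ := by rw [← h1]; group
      _ = x * (z * g') * x⁻¹ := by rw [h2]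
      _ = x * z * x⁻¹ * g := by rw [← h1]; group
  have hZcent : Z ≤ centralizer {x} := mem_cent_of_rgroup hs hr hsr hx hi hZnorm
    (fun j hj hji => h j hj (lt_of_le_of_lt hji hik'))
  obtain ⟨j, hjk, hj, hsj⟩ := card_fix hs hr hsr hx hP hnorm
  have hle : Z ≤ P ⊓ centralizer {x} := le_inf hZP hZcent
  have hj0 : 0 < j := by
    rcases Nat.eq_zero_or_pos j with h0 | h0
    · exfalso
      have h1 := Nat.le_of_dvd Nat.card_pos (Subgroup.card_dvd_of_le hle)
      rw [hi, hj, h0, pow_zero] at h1
      have h2 : 1 < r ^ i := Nat.one_lt_pow hi0.ne' hr.one_lt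
      omega
    · exact h0
  have hjk' : j = k := by
    by_contra hne
    exact h (k - j) (by omega) (by omega) hsj
  have h1 : P ⊓ centralizer {x} = P := by
    apply Subgroup.eq_of_le_of_card_ge inf_le_left
    rw [hj, hjk', hP]
  rw [← h1]
  exact inf_le_right

/-- coprime action, from the Sylow subgroups -/
theorem centralizes_of {s : ℕ} (hs : s.Prime) {R : Subgroup K} [R.Normal] {x : K} (hx : orderOf x = s)
    (hsR : ¬ s ∣ Nat.card R)
    (h : ∀ r k : ℕ, r.Prime → s ≠ r → ∀ P : Subgroup K, P ≤ R → Nat.card P = r ^ k →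
      (∀ y ∈ P, x * y * x⁻¹ ∈ P) → P ≤ centralizer {x}) : R ≤ centralizer {x} := by
  have hfs : Fact s.Prime := ⟨hs⟩
  let C : Subgroup K := R ⊓ centralizer {x}
  have hpg : IsPGroup s (zpowers x) := IsPGroup.of_card (n := 1) (by rw [Nat.card_zpowers, hx, pow_one])
  have key : Nat.card R ∣ Nat.card C := by
    rw [← Nat.factorization_prime_le_iff_dvd Nat.card_pos.ne' Nat.card_pos.ne']
    intro r hr
    have hfr : Fact r.Prime := ⟨hr⟩
    by_cases hrR : r ∣ Nat.card R
    swap
    · rw [Nat.factorization_eq_zero_of_not_dvd hrR]; exact Nat.zero_le _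
    have hsr : s ≠ r := fun h1 => hsR (h1 ▸ hrR)
    letI : MulDistribMulAction (zpowers x) R :=
      MulDistribMulAction.compHom R ((MulAut.conjNormal (H := R)).comp (zpowers x).subtype)
    have hact : ∀ (g : zpowers x) (y : R), ((g • y : R) : K) = g * y * (g : K)⁻¹ := fun g y =>
      MulAut.conjNormal_apply (g : K) y
    have hn : ¬ s ∣ Nat.card (Sylow r R) := by
      intro h1
      obtain ⟨P⟩ : Nonempty (Sylow r R) := inferInstance
      exact hsR (h1.trans ((Sylow.card_dvd_index P).trans (Subgroup.index_dvd_card _)))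
    obtain ⟨P, hP⟩ := hpg.nonempty_fixed_point_of_prime_not_dvd_card (Sylow r R) hn
    rw [mem_fixedPoints] at hP
    have hPx := hP ⟨x, mem_zpowers x⟩
    let P' : Subgroup K := (P : Subgroup R).map R.subtype
    have hP'card : Nat.card P' = r ^ (Nat.card R).factorization r := by
      rw [← Sylow.card_eq_multiplicity P]
      exact (Nat.card_congr (Subgroup.equivMapOfInjective (P : Subgroup R) _ R.subtype_injective).toEquiv).symm
    have hP'R : P' ≤ R := Subgroup.map_subtype_le _
    have hnorm : ∀ y ∈ P', x * y * x⁻¹ ∈ P' := by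
      rintro _ ⟨y, hy, rfl⟩
      have h2 : (⟨x, mem_zpowers x⟩ : zpowers x) • y ∈ (⟨x, mem_zpowers x⟩ : zpowers x) • P :=
        Subgroup.smul_mem_pointwise_smul y _ _ hy
      rw [hPx] at h2
      exact ⟨_, h2, hact _ _⟩
    have hcent := h r _ hr hsr P' hP'R hP'card hnorm
    have hle : P' ≤ C := le_inf hP'R hcent
    have h3 : r ^ (Nat.card R).factorization r ∣ Nat.card C := hP'card ▸ Subgroup.card_dvd_of_le hle
    exact (hr.pow_dvd_iff_le_factorization Nat.card_pos.ne').1 h3
  have h1 : C = R := Subgroup.eq_of_le_of_card_ge inf_le_left (Nat.le_of_dvd Nat.card_pos key)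
  rw [← h1]
  exact inf_le_right

end action

/-! ### the criterion with the action as a hypothesis -/

section crit

variable {G : Type u} [Group G] [Finite G]

/-- **`CL G` from a prime `p` acting trivially on the normal `p'`-subgroups.** -/
theorem cl_of_hyp [IsSimpleGroup G] (hna : ¬ IsMulCommutative G) (hb : Below (Nat.card G)) {p : ℕ} (hp : p.Prime)
    (h1 : p ∣ Nat.card G) (h2 : ¬ p ^ 2 ∣ Nat.card G)
    (hc : ∀ K : Subgroup G, ∀ R : Subgroup K, R.Normal → ¬ p ∣ Nat.card R →
      ∀ x : K, orderOf x = p → ∀ y ∈ R, x * y = y * x)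
    (hZ : ∀ Y : Subgroup G, Qs p Y → Nat.card (center Y) = 1 ∨ (Nat.card (center Y)).Prime) : CL G := by
  have hfp : Fact p.Prime := ⟨hp⟩
  by_cases hex : ∃ Y : Subgroup G, Qs p Y
  · obtain ⟨Y₀, hY₀⟩ := hex
    have : Nonempty {Y : Subgroup G // Qs p Y} := ⟨⟨Y₀, hY₀⟩⟩
    obtain ⟨⟨Y, hY⟩, hmax⟩ := Finite.exists_max (fun Y : {Y : Subgroup G // Qs p Y} => Nat.card Y.1)
    refine hY.cl hb hp (fun K hYK hK => hY.uniq hp h2 (fun Y' hY' hle => ?_) K hYK hK (hc K)) (hZ Y hY)
    exact (Subgroup.eq_of_le_of_card_ge hle (hmax ⟨Y', hY'⟩)).symm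
  · obtain ⟨x, hxo⟩ := exists_prime_orderOf_dvd_card' (G := G) p h1
    have hXc : Nat.card (zpowers x) = p := by rw [Nat.card_zpowers, hxo]
    have h0 : zpowers x ≠ ⊥ := by
      intro h
      rw [h, Subgroup.card_bot] at hXc
      exact hp.one_lt.ne hXc
    have ht : zpowers x ≠ ⊤ := by
      intro h
      apply hna
      refine ⟨⟨fun a b => ?_⟩⟩
      have ha : a ∈ zpowers x := h ▸ mem_top a
      have hb' : b ∈ zpowers x := h ▸ mem_top b
      obtain ⟨i, rfl⟩ := mem_zpowers_iff.1 ha
      obtain ⟨j, rfl⟩ := mem_zpowers_iff.1 hb'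
      rw [← zpow_add, ← zpow_add, add_comm]
    refine crit_unique (X := zpowers x) (M := normalizer (zpowers x : Set G)) (of_prime (hXc ▸ hp))
      (normalizer_ne_top h0 ht) fun K hXK hK => ?_
    have hpK : p ∣ Nat.card K := hXc ▸ Subgroup.card_dvd_of_le hXK
    rcases overgroup hp h2 hK hpK (hc K) with ⟨X, hX, hKX, hX'⟩ | ⟨Y', hY', -⟩
    · have h3 : x ∈ X := mem_of_normal hp h2 hX hKX hX' (hXK (mem_zpowers x)) hxo
      have h4 : zpowers x = X := by
        apply Subgroup.eq_of_le_of_card_ge (zpowers_le.2 h3)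
        rw [hXc, hX']
      rw [h4]; exact hKX
    · exact absurd ⟨Y', hY'⟩ hex

end crit

/-! ### a nonabelian 3-subgroup -/

section three

/-- a group generated by elements of order 3 commuting modulo a central element of order 3 is a 3-group -/
theorem pow_nine {K : Type u} [Group K] {S : Set K} (hS : closure S = ⊤) {c : K} (hc : ∀ g, g * c = c * g)
    (c3 : c ^ 3 = 1) (h3 : ∀ x ∈ S, x ^ 3 = 1) (hcomm : ∀ x ∈ S, ∀ y ∈ S, ∃ k : ℤ, x * y = c ^ k * (y * x)) (g : K) :
    g ^ 9 = 1 := by
  have hN : (zpowers c).Normal := by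
    constructor
    intro n hn g
    obtain ⟨k, rfl⟩ := mem_zpowers_iff.1 hn
    have h1 : Commute g (c ^ k) := (show Commute g c from hc g).zpow_right k
    rw [h1.eq, mul_inv_cancel_right]
    exact hn
  let π := QuotientGroup.mk' (zpowers c)
  have hπ : Function.Surjective π := QuotientGroup.mk'_surjective _
  have hcl : closure (π '' S) = ⊤ := by
    rw [← MonoidHom.map_closure, hS, Subgroup.map_top_of_surjective _ hπ]
  have hcm := Subgroup.isMulCommutative_closure (k := π '' S) (by
    rintro _ ⟨x, hx, rfl⟩ _ ⟨y, hy, rfl⟩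
    obtain ⟨k, hk⟩ := hcomm x hx y hy
    rw [← map_mul, ← map_mul, hk, map_mul]
    have h1 : π (c ^ k) = 1 := (QuotientGroup.eq_one_iff _).2 (zpow_mem (mem_zpowers c) k)
    rw [h1, one_mul])
  have hab : ∀ a b : K ⧸ zpowers c, a * b = b * a := by
    intro a b
    have h1 := hcm.is_comm.comm ⟨a, hcl ▸ mem_top a⟩ ⟨b, hcl ▸ mem_top b⟩
    exact congrArg Subtype.val h1
  have hcube : ∀ a : K ⧸ zpowers c, a ^ 3 = 1 := by
    intro a
    have ha : a ∈ closure (π '' S) := hcl ▸ mem_top a
    induction ha using closure_induction with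
    | mem a ha =>
      obtain ⟨x, hx, rfl⟩ := ha
      rw [← map_pow, h3 x hx, map_one]
    | one => exact one_pow 3
    | mul a b _ _ ha hb => rw [(show Commute a b from hab a b).mul_pow, ha, hb, one_mul]
    | inv a _ ha => rw [inv_pow, ha, inv_one]
  have h1 : g ^ 3 ∈ zpowers c := by
    rw [← QuotientGroup.eq_one_iff]
    exact hcube (π g)
  obtain ⟨k, hk⟩ := mem_zpowers_iff.1 h1
  rw [show 9 = 3 * 3 from rfl, pow_mul, ← hk, ← zpow_natCast, ← zpow_mul, mul_comm, zpow_mul, zpow_natCast, c3,
    one_zpow]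

/-- the hypothesis: two elements of order dividing 3 with a nontrivial commutator centralised by both -/
def Three (G : Type u) [Group G] : Prop :=
  ∃ u v c : G, u ^ 3 = 1 ∧ v ^ 3 = 1 ∧ c ≠ 1 ∧ u * v = c * (v * u) ∧ c * u = u * c ∧ c * v = v * c

theorem Three.congr {G : Type u} {H : Type*} [Group G] [Group H] (e : G ≃* H) (h : Three G) : Three H := by
  obtain ⟨u, v, c, h1, h2, h3, h4, h5, h6⟩ := h
  refine ⟨e u, e v, e c, ?_, ?_, ?_, ?_, ?_, ?_⟩
  · rw [← map_pow, h1, map_one]
  · rw [← map_pow, h2, map_one]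
  · intro h
    exact h3 (e.injective (h.trans (map_one e).symm))
  · rw [← map_mul, h4, map_mul, map_mul]
  · rw [← map_mul, h5, map_mul]
  · rw [← map_mul, h6, map_mul]

/-- a subgroup of the order of a Sylow 3-subgroup is not abelian -/
theorem Three.nonab {G : Type u} [Group G] [Finite G] (h : Three G) {P : Subgroup G} {k : ℕ} (hP : Nat.card P = 3 ^ k)
    (hi : ¬ 3 ∣ P.index) : ¬ ∀ a ∈ P, ∀ b ∈ P, a * b = b * a := by
  intro hab
  have hf3 : Fact (Nat.Prime 3) := ⟨Nat.prime_three⟩
  obtain ⟨u, v, c, h1, h2, h3, h4, h5, h6⟩ := h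
  have c3 : c ^ 3 = 1 := by
    have e1 : u * v * u⁻¹ = c * v := by rw [h4]; group
    have hcu : Commute c u := h5
    have key : ∀ n : ℕ, u ^ n * v * (u ^ n)⁻¹ = c ^ n * v := by
      intro n
      induction n with
      | zero => simp
      | succ n ih =>
        calc u ^ (n + 1) * v * (u ^ (n + 1))⁻¹ = u * (u ^ n * v * (u ^ n)⁻¹) * u⁻¹ := by rw [pow_succ']; group
          _ = u * (c ^ n * v) * u⁻¹ := by rw [ih]
          _ = (u * c ^ n) * v * u⁻¹ := by group
          _ = (c ^ n * u) * v * u⁻¹ := by rw [(hcu.pow_left n).eq]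
          _ = c ^ n * (u * v * u⁻¹) := by group
          _ = c ^ (n + 1) * v := by rw [e1, pow_succ]; group
    have h7 := key 3
    rw [h1] at h7
    have h8 : c ^ 3 * v = 1 * v := by rw [← h7]; group
    exact mul_right_cancel h8
  let S : Set G := {u, v}
  let K : Subgroup G := closure S
  have hcK : ∀ g ∈ K, g * c = c * g := by
    intro g hg
    induction hg using closure_induction with
    | mem g hg =>
      rcases hg with rfl | rfl
      · exact h5.symm
      · exact h6.symm
    | one => simp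
    | mul a b _ _ ha hb => rw [mul_assoc, hb, ← mul_assoc, ha, mul_assoc]
    | inv a _ ha =>
      have : Commute a c := ha
      exact this.inv_left.eq
  have hu : u ∈ K := subset_closure (by simp [S])
  have hv : v ∈ K := subset_closure (by simp [S])
  have hcmem : c ∈ K := by
    have : c = u * v * (v * u)⁻¹ := by rw [h4]; group
    rw [this]
    exact mul_mem (mul_mem hu hv) (inv_mem (mul_mem hv hu))
  have h9 : IsPGroup 3 K := by
    intro g
    refine ⟨2, ?_⟩
    refine pow_nine (S := ((↑) : K → G) ⁻¹' S) (closure_closure_coe_preimage) (c := ⟨c, hcmem⟩) ?_ ?_ ?_ ?_ g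
    · intro g
      exact Subtype.ext (hcK g g.2)
    · exact Subtype.ext c3
    · intro x hx
      apply Subtype.ext
      rcases (show (x : G) = u ∨ (x : G) = v from hx) with h | h
      · rw [SubmonoidClass.coe_pow, h, h1]; rfl
      · rw [SubmonoidClass.coe_pow, h, h2]; rfl
    · intro x hx y hy
      rcases (show (x : G) = u ∨ (x : G) = v from hx) with hx | hx <;>
        rcases (show (y : G) = u ∨ (y : G) = v from hy) with hy | hy
      · exact ⟨0, Subtype.ext (by simp [hx, hy])⟩
      · exact ⟨1, Subtype.ext (by simp [hx, hy, h4])⟩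
      · refine ⟨-1, Subtype.ext ?_⟩
        simp only [Subgroup.coe_mul, hx, hy, zpow_neg, zpow_one, InvMemClass.coe_inv]
        rw [h4, inv_mul_cancel_left]
      · exact ⟨0, Subtype.ext (by simp [hx, hy])⟩
  let P' : Sylow 3 G := (IsPGroup.of_card hP).toSylow hi
  have hP' : (P' : Subgroup G) = P := rfl
  obtain ⟨Q, hQ⟩ := h9.exists_le_sylow
  obtain ⟨g, hg⟩ := MulAction.exists_smul_eq G P' Q
  have hmem : ∀ w ∈ K, g⁻¹ * w * g ∈ P := by
    intro w hw
    have h7 : w ∈ (Q : Subgroup G) := hQ hw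
    rw [← hg, Sylow.coe_subgroup_smul, hP', Subgroup.mem_pointwise_smul_iff_inv_smul_mem, MulAut.smul_def,
      MulAut.conj_inv_apply] at h7
    exact h7
  have h10 := hab _ (hmem u hu) _ (hmem v hv)
  have h11 : u * v = v * u := by
    calc u * v = g * ((g⁻¹ * u * g) * (g⁻¹ * v * g)) * g⁻¹ := by group
      _ = g * ((g⁻¹ * v * g) * (g⁻¹ * u * g)) * g⁻¹ := by rw [h10]
      _ = v * u := by group
  rw [h11] at h4
  have h12 : 1 * (v * u) = c * (v * u) := by rw [one_mul]; exact h4
  exact h3 (mul_right_cancel h12).symm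

end three

/-! ### the Tits group -/

/-- the factorization list -/
def lT : List (ℕ × ℕ) := [(2, 11), (3, 3), (5, 2), (13, 1)]

theorem only_three : ∀ x ∈ lT, ∀ j ∈ List.range x.2, 13 ∣ x.1 ^ (j + 1) - 1 → x.1 = 3 ∧ j + 1 = 3 := by
  decide +kernel

theorem action {G : Type u} [Group G] [Finite G] (hN : Nat.card G = 17971200) (h3 : Three G) (K : Subgroup G)
    (R : Subgroup K) (hR : R.Normal) (hp : ¬ 13 ∣ Nat.card R) (x : K) (hx : orderOf x = 13) (y : K) (hy : y ∈ R) :
    x * y = y * x := by
  have hs : Nat.Prime 13 := by norm_num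
  have hle : R ≤ centralizer {x} := by
    refine centralizes_of hs hx hp fun r k hr hsr P hPR hP hnorm => ?_
    by_cases hno : ∀ j, 0 < j → j ≤ k → ¬ 13 ∣ r ^ j - 1
    · exact mem_cent_of_rgroup hs hr hsr hx hP hnorm hno
    push Not at hno
    obtain ⟨j, hj0, hjk, hj⟩ := hno
    have hdvd : r ^ k ∣ 17971200 := by
      rw [← hP, ← hN]
      exact (Subgroup.card_subgroup_dvd_card P).trans (Subgroup.card_subgroup_dvd_card K)
    have hv : valid lT 17971200 = true := by decide +kernel
    obtain ⟨m, hm, hjm⟩ := exists_pair hv hr (show 1 ≤ k by omega) hdvd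
    obtain ⟨hr3, hj3⟩ := only_three _ hm (j - 1) (List.mem_range.2 (by simp only; omega)) (by
      simp only
      rwa [Nat.sub_add_cancel hj0])
    simp only at hr3 hj3
    have hj3' : j = 3 := by omega
    subst hr3
    have hm3 : m = 3 := by
      simp only [lT, List.mem_cons, List.not_mem_nil, or_false, Prod.mk.injEq] at hm
      omega
    have hk : k = 3 := by omega
    subst hk
    -- the image in `G`
    let P' : Subgroup G := P.map K.subtype
    have hP' : Nat.card P' = 3 ^ 3 := by
      rw [← hP]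
      exact (Nat.card_congr (Subgroup.equivMapOfInjective P _ K.subtype_injective).toEquiv).symm
    have hidx : ¬ 3 ∣ P'.index := by
      have h5 := Subgroup.card_mul_index P'
      rw [hP', hN] at h5
      have h6 : P'.index = 665600 := by omega
      rw [h6]; norm_num
    have hna := h3.nonab hP' hidx
    refine mem_cent_of_nonab hs hr hsr hx hP hnorm (fun i hi hik => ?_) fun hab => hna ?_
    · have : i = 1 ∨ i = 2 := by omega
      rcases this with rfl | rfl <;> norm_num
    · rintro _ ⟨a, ha, rfl⟩ _ ⟨b, hb, rfl⟩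
      exact congrArg Subtype.val (hab a ha b hb)
  exact (mem_centralizer_singleton_iff.1 (hle hy)).symm

/-- **The Tits group.** -/
theorem cl_tits {G : Type} [Group G] [Finite G] [IsSimpleGroup G] (hN : Nat.card G = 17971200) (T : OrderTable.{0})
    (hK : Known.{0}) (M : MultPSL) (M' : MultPSU) (h3 : Three G) (hb : Below (Nat.card G)) : CL G := by
  have hp : Nat.Prime 13 := by norm_num
  have hv : valid lT 17971200 = true := by decide +kernel
  refine cl_of_hyp (not_comm hN hp (by norm_num) (by norm_num)) hb hp (hN ▸ by norm_num) (hN ▸ by norm_num)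
    (action hN h3) fun Y hY => ?_
  obtain ⟨g, hg, hr, -⟩ := qs_real T hK hv hN hp hY
  rw [show qc lT 17971200 13 = [.psl 3 3, .psl 2 25, .psu 3 4] by decide +kernel] at hg
  simp only [List.mem_cons, List.not_mem_nil, or_false] at hg
  rcases hg with rfl | rfl | rfl
  · exact Or.inl (Nat.dvd_one.1 ((center_psl M hY (by norm_num) (by norm_num) (by simp) hr).trans (by norm_num)))
  · exact one_or_prime Nat.prime_two ((center_psl M hY le_rfl (by norm_num) (by simp) hr).trans (by norm_num))
  · exact Or.inl (Nat.dvd_one.1 ((center_psu M' hY le_rfl (by norm_num) (by simp) hr).trans (by norm_num)))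

end Cfsg.Agent.H808.ClTitsCore
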