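import Cfsg.Agent.Mrg.Omega.TwoF.Tits
import Cfsg.Agent.H808.ClTitsCore

/-!
# The Sylow 3-subgroups of the Tits group are not abelian (helper808)

`three : Lie.IsoTits K → Three K`, by words in the letters of the matrix model.
-/

set_option autoImplicit false
set_option maxRecDepth 100000

namespace Cfsg.Agent.H808.TitsThree

open Subgroup Cfsg.Agent.ChevalleyStructure.Tits.Pack Cfsg.Agent.ChevalleyStructure.Tits.Data
  Cfsg.Agent.ChevalleyStructure.Tits.Cert
  Cfsg.Agent.ChevalleyStructure.Tits.Sat Cfsg.Agent.ChevalleyStructure.Tits.Final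
  Cfsg.Agent.ChevalleyStructure.Tits.Mat Cfsg.Agent.ChevalleyStructure.Tits.Order
  Cfsg.Agent.ChevalleyStructure.Tits.Main
open Cfsg.Agent.Omega.TwoF.Tits
open Cfsg.Agent.H808.ClTitsCore
open scoped MatrixGroups

/-- the word of `u` -/
def wu : List ℕ := [0, 8]
/-- the word of `v` -/
def wv : List ℕ := [9, 3, 0, 8, 9, 0, 8, 9, 8, 0, 3, 3, 3, 9]
/-- the word of the commutator -/
def wc : List ℕ := wu ++ wv ++ (wu ++ wu) ++ (wv ++ wv)

/-- the element `u` -/
noncomputable def u : C := ⟨wH wu, wH_mem (by decide +kernel)⟩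
/-- the element `v` -/
noncomputable def v : C := ⟨wH wv, wH_mem (by decide +kernel)⟩
/-- the commutator -/
noncomputable def c : C := ⟨wH wc, wH_mem (by decide +kernel)⟩

theorem u3 : u ^ 3 = 1 := by
  apply Subtype.ext
  show wH wu ^ 3 = 1
  rw [← wH_rep]
  exact rel (v := []) (by decide +kernel)

theorem v3 : v ^ 3 = 1 := by
  apply Subtype.ext
  show wH wv ^ 3 = 1
  rw [← wH_rep]
  exact rel (v := []) (by decide +kernel)

theorem cu : c * u = u * c := by
  apply Subtype.ext
  show wH wc * wH wu = wH wu * wH wc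
  rw [← wH_append, ← wH_append]
  exact rel (by decide +kernel)

theorem cv : c * v = v * c := by
  apply Subtype.ext
  show wH wc * wH wv = wH wv * wH wc
  rw [← wH_append, ← wH_append]
  exact rel (by decide +kernel)

theorem c_eq : c = u * v * (u * u) * (v * v) := by
  apply Subtype.ext
  show wH wc = wH wu * wH wv * (wH wu * wH wu) * (wH wv * wH wv)
  rw [← wH_append, ← wH_append, ← wH_append, ← wH_append, ← wH_append]
  rfl

theorem c_ne : c ≠ 1 := by
  intro h
  have h1 : ((wH wc : H0) : GL I52 (ZMod 2)) = 1 := by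
    have h2 : ((c : H0) : GL I52 (ZMod 2)) = 1 := by rw [h]; rfl
    exact h2
  have h2 := coe_wH (l := wc) (by decide)
  have h3 := not_mem_of_chk (ws := []) (O := [1]) (w := wc) (by decide +kernel)
    (by intro v hv; exact absurd hv (List.not_mem_nil)) (by decide)
  apply h3
  rw [← h2, h1]
  exact Subgroup.one_mem _

theorem three_C : Three C := by
  refine ⟨u, v, c, u3, v3, c_ne, ?_, cu, cv⟩
  have e1 : v * v * v = 1 := by rw [← pow_two, ← pow_succ]; exact v3
  have e2 : u * u * u = 1 := by rw [← pow_two, ← pow_succ]; exact u3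
  calc u * v = u * v * (u * u * u) := by rw [e2, mul_one]
    _ = u * v * (u * u) * (v * v * v) * u := by rw [e1]; group
    _ = c * (v * u) := by rw [c_eq]; group

theorem three_aux (T : Subgroup (GL I52 (ZMod 2))) (hT : T = H0) : Three (commutator T) := by
  subst hT
  exact three_C

theorem three_of {G K : Type*} [Group G] [Group K] (T : Subgroup G) (h : Three (commutator T))
    (e : K ≃* commutator T) : Three K := h.congr e.symm

/-- **The Sylow 3-subgroups of the Tits group are not abelian.** -/
theorem three {K : Type*} [Group K] (h : Cfsg.Lie.IsoTits K) : Three K := by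
  obtain ⟨T, hT, ⟨e⟩⟩ := Cfsg.Agent.Omega.TwoF.TitsAut.exists_equiv h
  exact three_of T (three_aux T hT) e

end Cfsg.Agent.H808.TitsThree
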