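import Cfsg.Agent.H808.ClParts
import Cfsg.Agent.H808.TitsThree
import Cfsg.Agent.OrdDiv.Table
import Cfsg.Agent.S0000
import Cfsg.Agent.S2086
import Cfsg.Agent.S2089
import Cfsg.Agent.S2034
import Cfsg.Agent.S2035
import Cfsg.Agent.S2036
import Cfsg.Agent.S2039

/-!
# Complemented subgroup lattices of J1, J2, J3, J4, ON, Ly, Th, HN and the Tits group (helper808, S5900)
-/

set_option autoImplicit false

namespace Cfsg.Agent.H808.ClSpor

open Cfsg Cfsg.Agent.OrdDiv Cfsg.Agent.H808.ClCore Cfsg.Agent.H808.GoodNum Cfsg.Agent.H939.KLat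

theorem known : Known.{0} := fun _ _ _ _ => Cfsg.Agent.S0000.result

theorem psl : MultPSL := fun hF n hn h2 he => Cfsg.Agent.S2086.result hF n hn h2 he

theorem psu : MultPSU := fun n q hF hn h3 he => Cfsg.Agent.S2089.result n q hF hn h3 he

variable {G : Type} [Group G] [Finite G] [IsSimpleGroup G]

theorem cl_j1 (h : Spor.IsoJ1 G) (hb : Below (Nat.card G)) : CL G :=
  ClCore.cl_j1 (NotCT.Orders.j1 h) table known hb

theorem cl_j2 (h : Spor.IsoJ2 G) (hb : Below (Nat.card G)) : CL G := by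
  obtain ⟨X, h1, h2⟩ := ClParts.exists_j2 h (NotCT.Orders.j2 h)
  exact ClCore.cl_j2 (NotCT.Orders.j2 h) table known h1 h2 hb

theorem cl_j3 (h : Spor.IsoJ3 G) (hb : Below (Nat.card G)) : CL G :=
  ClCore.cl_j3 (NotCT.Orders.j3 h) table known psl hb

theorem cl_j4 (h : Spor.IsoJ4 G) (hb : Below (Nat.card G)) : CL G :=
  ClCore.cl_j4 (NotCT.Orders.j4 h) table known psl hb

theorem cl_ly (h : Spor.IsoLy G) (hb : Below (Nat.card G)) : CL G :=
  ClCore.cl_ly (NotCT.Orders.ly h) table known hb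

theorem cl_th (h : Spor.IsoTh G) (hb : Below (Nat.card G)) : CL G :=
  ClCore.cl_th (NotCT.Orders.th h) table known psl psu hb

theorem cl_hn (h : Spor.IsoHN G) (hb : Below (Nat.card G)) : CL G := by
  obtain ⟨X, h1, h2⟩ := ClParts.exists_hn h (NotCT.Orders.hn h)
  exact ClCore.cl_hn (NotCT.Orders.hn h) table known h1 h2 hb

theorem cl_on (h : Spor.IsoON G) (hb : Below (Nat.card G)) : CL G :=
  ClCore.cl_on (NotCT.Orders.on h) table known psl Cfsg.Agent.S2034.result Cfsg.Agent.S2035.result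
    Cfsg.Agent.S2036.result Cfsg.Agent.S2039.result (ClParts.cent_on h) hb

theorem cl_tits (h : Lie.IsoTits G) (hb : Below (Nat.card G)) : CL G :=
  ClTitsCore.cl_tits (NotCT.Orders.tits h) table known psl psu (TitsThree.three h) hb

end Cfsg.Agent.H808.ClSpor
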