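import Cfsg.Agent.H808.GoodCL
import Cfsg.Agent.OrdDiv.Main
import Cfsg.Prelude.Def_KGroupFacts

/-!
# Complemented subgroup lattices: the numerical conditions (helper808, S5900)

* `noActB`, `noAct_of` : `NoAct s N` by computation;
* `qs_real` : the simple quotients of the `Qs p` subgroups are in the list `qc l N p`;
* `cl_of_none` : no candidates at all;
* `cl_of_list` : the centers of the candidates have order 1 or a prime;
* `cl_of_simple_num` : a proper simple subgroup `X` with no simple group of order properly between.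
* `card_center_dvd` : the center of a perfect group from the Schur multiplier.
-/

set_option autoImplicit false
set_option linter.style.haveILetI false
set_option linter.unusedSectionVars false

namespace Cfsg.Agent.H808.GoodNum

open Subgroup Cfsg Cfsg.Agent.OrdDiv Cfsg.Agent.H808.GoodCL Cfsg.Agent.H808.GoodPrime Cfsg.Agent.H939.KLat

universe u v

/-- computable version of `NoAct` -/
def noActB (s : ℕ) (l : List (ℕ × ℕ)) : Bool :=
  l.all fun x => (List.range x.2).all fun j => !(Nat.beq ((x.1 ^ (j + 1) - 1) % s) 0)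

theorem noAct_of {s N : ℕ} {l : List (ℕ × ℕ)} (hv : valid l N = true) (h : noActB s l = true) : NoAct s N := by
  intro r j hr hj hd hs
  obtain ⟨k, hk, hjk⟩ := exists_pair hv hr hj hd
  unfold noActB at h
  rw [List.all_eq_true] at h
  have h1 := h _ hk
  rw [List.all_eq_true] at h1
  have h2 := h1 (j - 1) (List.mem_range.2 (by simp only; omega))
  rw [Bool.not_eq_true'] at h2
  have h3 : (r ^ (j - 1 + 1) - 1) % s = 0 := by
    rw [Nat.sub_add_cancel hj]
    exact Nat.mod_eq_zero_of_dvd hs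
  have h4 : Nat.beq ((r ^ (j - 1 + 1) - 1) % s) 0 = true := by rw [h3]; rfl
  exact absurd (h2.symm.trans h4) (by decide)

/-- the candidates: orders divisible by `p`, less than `N` -/
def qc (l : List (ℕ × ℕ)) (N p : ℕ) : List Grp :=
  (cands l N).filter fun g => Nat.beq (ordN g % p) 0 && Nat.blt (ordN g) N

/-- all finite simple groups are known -/
abbrev Known : Prop := ∀ (S : Type u) [Group S] [Finite S] [IsSimpleGroup S], IsKnownSimple' S

section

variable {G : Type u} [Group G] [Finite G]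

/-- the quotients of `Qs` groups -/
theorem qs_good (T : OrderTable.{u}) (hK : Known.{u}) {l : List (ℕ × ℕ)} {N : ℕ} (hv : valid l N = true)
    (hN : Nat.card G = N) {p : ℕ} {Y : Subgroup G} (hY : Qs p Y) :
    ∃ g ∈ cands l N, Real g (Y ⧸ center Y) ∧ Nat.card (Y ⧸ center Y) = ordN g ∧ ordN g < N := by
  have hs := hY.simple
  obtain ⟨g, hg, hr, hc⟩ := exists_good T (hK (Y ⧸ center Y)) (fun h => hY.nab ⟨⟨h⟩⟩) hv (by
    rw [← hN]
    exact (Subgroup.card_quotient_dvd_card _).trans (Subgroup.card_subgroup_dvd_card Y))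
  refine ⟨g, hg, hr, hc, ?_⟩
  rw [← hc, ← hN]
  exact lt_of_le_of_lt (Nat.le_of_dvd Nat.card_pos (Subgroup.card_quotient_dvd_card _)) (card_lt_of_ne_top hY.ne)

theorem qs_real (T : OrderTable.{u}) (hK : Known.{u}) {l : List (ℕ × ℕ)} {N : ℕ} (hv : valid l N = true)
    (hN : Nat.card G = N) {p : ℕ} (hp : p.Prime) {Y : Subgroup G} (hY : Qs p Y) :
    ∃ g ∈ qc l N p, Real g (Y ⧸ center Y) ∧ Nat.card (Y ⧸ center Y) = ordN g := by
  obtain ⟨g, hg, hr, hc, hlt⟩ := qs_good T hK hv hN hY
  refine ⟨g, ?_, hr, hc⟩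
  unfold qc
  rw [List.mem_filter]
  refine ⟨hg, ?_⟩
  have h1 : p ∣ ordN g := by
    rw [← hc]
    have h2 : Nat.card Y = Nat.card (Y ⧸ center Y) * Nat.card (center Y) :=
      Subgroup.card_eq_card_quotient_mul_card_subgroup _
    exact (hp.dvd_mul.1 (h2 ▸ hY.dvd)).resolve_right hY.ndvd
  rw [Bool.and_eq_true]
  refine ⟨?_, ?_⟩
  · rw [Nat.beq_eq]
    exact Nat.mod_eq_zero_of_dvd h1
  · simpa [Nat.blt_eq] using hlt

/-- **`CL G`: no candidates.** -/
theorem cl_of_none [IsSimpleGroup G] (hna : ¬ IsMulCommutative G) (hb : Below (Nat.card G)) (T : OrderTable.{u})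
    (hK : Known.{u}) {N : ℕ} (hN : Nat.card G = N) (l : List (ℕ × ℕ)) (hv : valid l N = true) {p : ℕ} (hp : p.Prime)
    (h1 : p ∣ N) (h2 : ¬ p ^ 2 ∣ N) (hA : noActB p l = true) (hq : qc l N p = []) : CL G := by
  refine cl_of_good hna hb hp (hN ▸ h1) (hN ▸ h2) (hN ▸ noAct_of hv hA) fun Y hY => ?_
  obtain ⟨g, hg, -⟩ := qs_real T hK hv hN hp hY
  rw [hq] at hg
  exact absurd hg List.not_mem_nil

/-- **`CL G`: the centers of the candidates have order 1 or a prime.** -/
theorem cl_of_list [IsSimpleGroup G] (hna : ¬ IsMulCommutative G) (hb : Below (Nat.card G)) (T : OrderTable.{u})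
    (hK : Known.{u}) {N : ℕ} (hN : Nat.card G = N) (l : List (ℕ × ℕ)) (hv : valid l N = true) {p : ℕ} (hp : p.Prime)
    (h1 : p ∣ N) (h2 : ¬ p ^ 2 ∣ N) (hA : noActB p l = true)
    (hZ : ∀ Y : Subgroup G, Qs p Y → ∀ g ∈ qc l N p, Real g (Y ⧸ center Y) → Nat.card (Y ⧸ center Y) = ordN g →
      Nat.card (center Y) = 1 ∨ (Nat.card (center Y)).Prime) : CL G := by
  refine cl_of_good hna hb hp (hN ▸ h1) (hN ▸ h2) (hN ▸ noAct_of hv hA) fun Y hY => ?_
  obtain ⟨g, hg, hr, hc⟩ := qs_real T hK hv hN hp hY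
  exact hZ Y hY g hg hr hc

/-- no simple group properly between -/
def simpB (l : List (ℕ × ℕ)) (N x : ℕ) : Bool :=
  (cands l N).all fun g => !(Nat.beq (ordN g % x) 0 && Nat.blt (ordN g) N) || Nat.beq (ordN g) x

/-- **`CL G` from a proper simple subgroup.** -/
theorem cl_of_simple_num [IsSimpleGroup G] (hb : Below (Nat.card G)) (T : OrderTable.{u}) (hK : Known.{u})
    {N x m : ℕ} (hN : Nat.card G = N) {X : Subgroup G} (hs : IsSimpleGroup X) (hna : ¬ IsMulCommutative X)
    (hx : Nat.card X = x) (hm : x * m = N) (hm1 : 1 < m) (l : List (ℕ × ℕ)) (hv : valid l N = true)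
    {p : ℕ} (hp : p.Prime) (h1 : p ∣ x) (h2 : ¬ p ^ 2 ∣ N) {s : ℕ} (hsp : s.Prime) (hs1 : s ∣ x) (hs2 : ¬ s ∣ m)
    (l' : List (ℕ × ℕ)) (hv' : valid l' m = true) (hA : noActB s l' = true) (hq : simpB l N x = true) : CL G := by
  have hx0 : 0 < x := hx ▸ Nat.card_pos
  have hidx : X.index = m := by
    have h3 := Subgroup.card_mul_index X
    rw [hx, hN, ← hm] at h3
    exact Nat.eq_of_mul_eq_mul_left hx0 h3
  have hX : X ≠ ⊤ := by
    intro h
    rw [h, Subgroup.index_top] at hidx
    omega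
  refine cl_of_simple hb hX hs hna hp (hx ▸ h1) (hN ▸ h2) hsp (hx ▸ hs1) (hidx ▸ hs2) (hidx ▸ noAct_of hv' hA)
    fun Y hY hXY => ?_
  obtain ⟨g, hg, hr, hc, hlt⟩ := qs_good T hK hv hN hY
  have h3 : Nat.card X ∣ Nat.card (Y ⧸ center Y) := by
    -- `X ∩ Z(Y) = 1`
    have h4 : center X = ⊥ := by
      rcases hs.eq_bot_or_eq_top_of_normal (center X) inferInstance with h | h
      · exact h
      · exact absurd ⟨⟨fun a b => (Subgroup.mem_center_iff.1 (h ▸ Subgroup.mem_top b) a)⟩⟩ hna
    let f : X →* Y ⧸ center Y := (QuotientGroup.mk' (center Y)).comp (inclusion hXY)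
    have hinj : Function.Injective f := by
      rw [← MonoidHom.ker_eq_bot_iff, eq_bot_iff]
      intro z hz
      have h5 : inclusion hXY z ∈ center Y := (QuotientGroup.eq_one_iff _).1 hz
      have h6 : z ∈ center X := by
        rw [mem_center_iff]
        intro w
        apply Subtype.ext
        exact congrArg (fun w : Y => (w : G)) (mem_center_iff.1 h5 (inclusion hXY w))
      rwa [h4] at h6
    have h5 := Subgroup.card_subgroup_dvd_card f.range
    rwa [← Nat.card_congr (MonoidHom.ofInjective hinj).toEquiv] at h5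
  unfold simpB at hq
  rw [List.all_eq_true] at hq
  have h4 := hq g hg
  rw [Bool.or_eq_true] at h4
  rcases h4 with h4 | h4
  · exfalso
    rw [Bool.not_eq_true', Bool.and_eq_false_iff] at h4
    rcases h4 with h4 | h4
    · have h5 : ordN g % x = 0 := by
        rw [← hc, ← hx]
        exact Nat.mod_eq_zero_of_dvd h3
      rw [h5] at h4
      exact absurd h4 (by decide)
    · have h5 : Nat.blt (ordN g) N = true := by simpa [Nat.blt_eq] using hlt
      rw [h5] at h4
      exact absurd h4 (by decide)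
  · rw [hc, Nat.eq_of_beq_eq_true h4, hx]

end

/-! ### the center from the Schur multiplier -/

theorem card_center_dvd {Y : Type u} [Group Y] [Finite Y] (hY : commutator Y = ⊤) {L : Type u} [Group L]
    (e : Y ⧸ center Y ≃* L) {n : ℕ} (hn : 0 < n) (h : HasCyclicSchurMultiplier L n) : Nat.card (center Y) ∣ n := by
  let σ : Y →* L := e.toMonoidHom.comp (QuotientGroup.mk' (center Y))
  have hker : σ.ker = center Y := by
    ext y
    rw [MonoidHom.mem_ker]
    show e (QuotientGroup.mk' (center Y) y) = 1 ↔ _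
    rw [map_eq_one_iff e e.injective]
    exact QuotientGroup.eq_one_iff y
  have hσ : IsStemExtension σ := by
    refine ⟨e.surjective.comp (QuotientGroup.mk'_surjective _), hker.le, ?_⟩
    rw [hY]; exact le_top
  obtain ⟨π, hπ⟩ := h.2 Y σ hσ
  have hne : NeZero n := ⟨hn.ne'⟩
  have h1 := Subgroup.card_dvd_of_surjective π hπ
  have h2 : Nat.card (Multiplicative (ZMod n)) = n := by
    rw [Nat.card_congr Multiplicative.toAdd]
    exact Nat.card_zmod n
  rw [h2, hker] at h1
  exact h1

end Cfsg.Agent.H808.GoodNum
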