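import Mathlib
import Cfsg.Agent.H358.TwoTransMod4
import Cfsg.Agent.H363.Frat

/-!
# Groups with a Sylow `p`-subgroup of order `p` acting trivially on `p'`-subgroups (helper808)

* `centralizes` : an element of prime order `s` centralises every normal `s'`-subgroup `R` such that `s ∤ r ^ j - 1`
  whenever `1 < r ^ j ∣ |R|`;
* `struct` : if `p` divides `|K|` exactly once and the elements of order `p` centralise all normal `p'`-subgroups then
  either a subgroup of order `p` is normal or the elements of order `p` generate a normal quasisimple subgroup.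
-/

set_option autoImplicit false
set_option linter.style.haveILetI false
set_option linter.unusedSectionVars false

namespace Cfsg.Agent.H808.GoodPrime

open Subgroup MulAction
open scoped commutatorElement

universe u

/-! ### coprime action -/

section action

variable {K : Type u} [Group K] [Finite K]

/-- fixed points of an element of prime order on an `r`-group -/
theorem mem_cent_of_rgroup {s r : ℕ} (hs : s.Prime) (hr : r.Prime) (hsr : s ≠ r) {x : K} (hx : orderOf x = s)
    {P : Subgroup K} {k : ℕ} (hP : Nat.card P = r ^ k) (hnorm : ∀ y ∈ P, x * y * x⁻¹ ∈ P)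
    (h : ∀ j, 0 < j → j ≤ k → ¬ s ∣ r ^ j - 1) : P ≤ centralizer {x} := by
  have hfs : Fact s.Prime := ⟨hs⟩
  have hfr : Fact r.Prime := ⟨hr⟩
  have hz : ∀ g ∈ zpowers x, ∀ y ∈ P, g * y * g⁻¹ ∈ P := by
    intro g hg
    have hxN : x ∈ normalizer (P : Set K) := by
      rw [mem_normalizer_iff]
      have hmap : P.map (MulAut.conj x).toMonoidHom = P := by
        apply Subgroup.eq_of_le_of_card_ge
        · rintro _ ⟨y, hy, rfl⟩
          exact hnorm y hy
        · have h0 : Nat.card (P.map (MulAut.conj x).toMonoidHom) = Nat.card P :=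
            (Nat.card_congr (Subgroup.equivMapOfInjective P (MulAut.conj x).toMonoidHom
              (MulAut.conj x).injective).toEquiv).symm
          rw [h0]
      intro y
      constructor
      · exact hnorm y
      · intro hy
        rw [← hmap] at hy
        obtain ⟨z, hz, hzy⟩ := hy
        have : z = y := by
          have h1 : x * z * x⁻¹ = x * y * x⁻¹ := hzy
          exact mul_left_cancel (mul_right_cancel h1)
        rwa [← this]
    have h1 : g ∈ normalizer (P : Set K) := (zpowers_le.2 hxN) hg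
    intro y hy
    exact (mem_normalizer_iff.1 h1 y).1 hy
  letI act : MulAction (zpowers x) P :=
    { smul := fun g y => ⟨(g : K) * y * (g : K)⁻¹, hz g g.2 y y.2⟩
      one_smul := fun y => Subtype.ext (by show (1 : K) * y * (1 : K)⁻¹ = y; simp)
      mul_smul := fun g g' y => Subtype.ext (by
        show ((g : K) * g') * y * ((g : K) * g')⁻¹ = g * (g' * y * (g' : K)⁻¹) * (g : K)⁻¹
        group) }
  have hact : ∀ (g : zpowers x) (y : P), ((g • y : P) : K) = g * y * (g : K)⁻¹ := fun _ _ => rfl
  have hpg : IsPGroup s (zpowers x) := IsPGroup.of_card (n := 1) (by rw [Nat.card_zpowers, hx, pow_one])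
  have hmod := hpg.card_modEq_card_fixedPoints (α := P)
  -- the fixed points
  have hfix : ∀ y : P, y ∈ fixedPoints (zpowers x) P ↔ (y : K) ∈ centralizer ({x} : Set K) := by
    intro y
    rw [mem_fixedPoints]
    constructor
    · intro h1
      have h2 := congrArg Subtype.val (h1 ⟨x, mem_zpowers x⟩)
      rw [hact] at h2
      rw [mem_centralizer_singleton_iff]
      have h3 : x * (y : K) * x⁻¹ = y := h2
      have h4 : x * (y : K) = y * x := by
        calc x * (y : K) = x * (y : K) * x⁻¹ * x := by group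
          _ = y * x := by rw [h3]
      exact h4.symm
    · intro h1 g
      rw [mem_centralizer_singleton_iff] at h1
      apply Subtype.ext
      rw [hact]
      obtain ⟨k, hk⟩ := mem_zpowers_iff.1 g.2
      have h2 : Commute (y : K) (g : K) := by
        rw [← hk]
        exact Commute.zpow_right h1 k
      rw [← h2.eq, mul_inv_cancel_right]
  let C : Subgroup K := P ⊓ centralizer {x}
  have hcard : Nat.card (fixedPoints (zpowers x) P) = Nat.card C := by
    refine Nat.card_congr ⟨fun y => ⟨y.1.1, y.1.2, (hfix y.1).1 y.2⟩, fun y => ⟨⟨y.1, y.2.1⟩, (hfix _).2 y.2.2⟩, ?_, ?_⟩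
    · intro y; rfl
    · intro y; rfl
  have hCd : Nat.card C ∣ r ^ k := by
    rw [← hP]
    exact Subgroup.card_dvd_of_le inf_le_left
  obtain ⟨j, hjk, hj⟩ := (Nat.dvd_prime_pow hr).1 hCd
  rw [hcard, hj, hP] at hmod
  rcases Nat.lt_or_ge j k with hlt | hge
  · exfalso
    have h1 : s ∣ r ^ k - r ^ j := (Nat.modEq_iff_dvd' (Nat.pow_le_pow_right hr.pos hjk)).1 hmod.symm
    have h2 : r ^ k - r ^ j = r ^ j * (r ^ (k - j) - 1) := by
      rw [Nat.mul_sub, ← pow_add, mul_one]
      congr 2
      omega
    rw [h2] at h1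
    rcases hs.dvd_mul.1 h1 with h3 | h3
    · exact hsr ((Nat.prime_dvd_prime_iff_eq hs hr).1 (hs.dvd_of_dvd_pow h3))
    · exact h (k - j) (by omega) (by omega) h3
  · have h1 : j = k := le_antisymm hjk hge
    have h2 : C = P := by
      apply Subgroup.eq_of_le_of_card_ge inf_le_left
      rw [hj, h1, hP]
    rw [← h2]
    exact inf_le_right

/-- **Coprime action of an element of prime order with no nontrivial action on the Sylow subgroups.** -/
theorem centralizes {s : ℕ} (hs : s.Prime) {R : Subgroup K} [R.Normal] {x : K} (hx : orderOf x = s)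
    (hsR : ¬ s ∣ Nat.card R) (h : ∀ r j : ℕ, r.Prime → 0 < j → r ^ j ∣ Nat.card R → ¬ s ∣ r ^ j - 1) :
    R ≤ centralizer {x} := by
  have hfs : Fact s.Prime := ⟨hs⟩
  let C : Subgroup K := R ⊓ centralizer {x}
  have hpg : IsPGroup s (zpowers x) := IsPGroup.of_card (n := 1) (by rw [Nat.card_zpowers, hx, pow_one])
  have key : Nat.card R ∣ Nat.card C := by
    rw [← Nat.factorization_prime_le_iff_dvd Nat.card_pos.ne' Nat.card_pos.ne']
    intro r hr
    have hfr : Fact r.Prime := ⟨hr⟩
    by_cases hrR : r ∣ Nat.card R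
    swap
    · rw [Nat.factorization_eq_zero_of_not_dvd hrR]; exact Nat.zero_le _
    have hsr : s ≠ r := fun h1 => hsR (h1 ▸ hrR)
    letI : MulDistribMulAction (zpowers x) R :=
      MulDistribMulAction.compHom R ((MulAut.conjNormal (H := R)).comp (zpowers x).subtype)
    have hact : ∀ (g : zpowers x) (y : R), ((g • y : R) : K) = g * y * (g : K)⁻¹ := fun g y =>
      MulAut.conjNormal_apply (g : K) y
    have hn : ¬ s ∣ Nat.card (Sylow r R) := by
      intro h1
      obtain ⟨P⟩ : Nonempty (Sylow r R) := inferInstance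
      exact hsR (h1.trans ((Sylow.card_dvd_index P).trans (Subgroup.index_dvd_card _)))
    obtain ⟨P, hP⟩ := hpg.nonempty_fixed_point_of_prime_not_dvd_card (Sylow r R) hn
    rw [mem_fixedPoints] at hP
    have hPx := hP ⟨x, mem_zpowers x⟩
    let P' : Subgroup K := (P : Subgroup R).map R.subtype
    have hP'card : Nat.card P' = r ^ (Nat.card R).factorization r := by
      rw [← Sylow.card_eq_multiplicity P]
      exact (Nat.card_congr (Subgroup.equivMapOfInjective (P : Subgroup R) _ R.subtype_injective).toEquiv).symm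
    have hP'R : P' ≤ R := Subgroup.map_subtype_le _
    have hnorm : ∀ y ∈ P', x * y * x⁻¹ ∈ P' := by
      rintro _ ⟨y, hy, rfl⟩
      have h2 : (⟨x, mem_zpowers x⟩ : zpowers x) • y ∈ (⟨x, mem_zpowers x⟩ : zpowers x) • P :=
        Subgroup.smul_mem_pointwise_smul y _ _ hy
      rw [hPx] at h2
      exact ⟨_, h2, hact _ _⟩
    have hcent := mem_cent_of_rgroup hs hr hsr hx hP'card hnorm (fun j hj hjk => h r j hr hj (by
      refine (pow_dvd_pow r hjk).trans (Nat.ordProj_dvd _ _)))
    have hle : P' ≤ C := le_inf hP'R hcent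
    have h3 : r ^ (Nat.card R).factorization r ∣ Nat.card C := hP'card ▸ Subgroup.card_dvd_of_le hle
    exact (hr.pow_dvd_iff_le_factorization Nat.card_pos.ne').1 h3
  have h1 : C = R := Subgroup.eq_of_le_of_card_ge inf_le_left (Nat.le_of_dvd Nat.card_pos key)
  rw [← h1]
  exact inf_le_right

end action

/-! ### the structure theorem -/

section struct

variable {K : Type u} [Group K] [Finite K]

/-- elements of order `p` lie in every normal subgroup of index prime to `p` -/
theorem mem_of_not_dvd_index {p : ℕ} (hp : p.Prime) {N : Subgroup K} [N.Normal] (hN : ¬ p ∣ N.index) {x : K}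
    (hx : orderOf x = p) : x ∈ N := by
  have h1 : orderOf (QuotientGroup.mk' N x) ∣ p := hx ▸ orderOf_map_dvd (QuotientGroup.mk' N) x
  have h2 : orderOf (QuotientGroup.mk' N x) ∣ N.index := by
    rw [Subgroup.index_eq_card]; exact orderOf_dvd_natCard _
  rcases (Nat.dvd_prime hp).1 h1 with h3 | h3
  · rw [orderOf_eq_one_iff] at h3
    exact (QuotientGroup.eq_one_iff x).1 h3
  · exact absurd (h3 ▸ h2) hN

theorem closure_order_normal (p : ℕ) : (closure {x : K | orderOf x = p}).Normal := by
  constructor
  intro n hn g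
  induction hn using closure_induction with
  | mem x hx =>
    refine subset_closure ?_
    show orderOf (g * x * g⁻¹) = p
    have h1 : orderOf (MulAut.conj g x) = orderOf x := MulEquiv.orderOf_eq (MulAut.conj g) x
    rw [MulAut.conj_apply] at h1
    exact h1.trans hx
  | one => simp
  | mul a b _ _ ha hb =>
    have : g * (a * b) * g⁻¹ = (g * a * g⁻¹) * (g * b * g⁻¹) := by group
    rw [this]; exact mul_mem ha hb
  | inv a _ ha =>
    have : g * a⁻¹ * g⁻¹ = (g * a * g⁻¹)⁻¹ := by group
    rw [this]; exact inv_mem ha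

/-- `z` is a power of `z ^ p` if its order is prime to `p` -/
theorem mem_zpowers_pow {p : ℕ} {z : K} (h : (orderOf z).Coprime p) : z ∈ zpowers (z ^ p) := by
  obtain ⟨m, hm⟩ := exists_pow_eq_self_of_coprime h.symm
  exact mem_zpowers_iff.2 ⟨m, by exact_mod_cast hm⟩

/-- **The structure theorem.** -/
theorem struct {p : ℕ} (hp : p.Prime) (h1 : p ∣ Nat.card K) (h2 : ¬ p ^ 2 ∣ Nat.card K)
    (hc : ∀ R : Subgroup K, R.Normal → ¬ p ∣ Nat.card R → ∀ x : K, orderOf x = p → ∀ y ∈ R, x * y = y * x) :
    (∃ X : Subgroup K, X.Normal ∧ Nat.card X = p) ∨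
    ∃ Y : Subgroup K, Y.Normal ∧ commutator Y = ⊤ ∧ IsSimpleGroup (Y ⧸ center Y) ∧
      ¬ IsMulCommutative (Y ⧸ center Y) ∧ p ∣ Nat.card Y ∧ ¬ p ∣ Nat.card (center Y) ∧
      Y = closure {x : K | orderOf x = p} := by
  have hfp : Fact p.Prime := ⟨hp⟩
  obtain ⟨R, hR, hmax⟩ := Set.Finite.exists_maximal (s := {R : Subgroup K | R.Normal ∧ ¬ p ∣ Nat.card R})
    (Set.toFinite _) ⟨⊥, inferInstance, by rw [Subgroup.card_bot]; exact fun h => hp.one_lt.ne' (Nat.dvd_one.1 h)⟩
  obtain ⟨hRn, hRp⟩ := hR
  have hcardR : Nat.card (K ⧸ R) * Nat.card R = Nat.card K := (Subgroup.card_eq_card_quotient_mul_card_subgroup R).symm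
  have hpq : p ∣ Nat.card (K ⧸ R) := (hp.dvd_mul.1 (hcardR.symm ▸ h1)).resolve_right hRp
  have hnt : Nontrivial (K ⧸ R) := by
    rw [← Finite.one_lt_card_iff_nontrivial]
    exact lt_of_lt_of_le hp.one_lt (Nat.le_of_dvd Nat.card_pos hpq)
  obtain ⟨Nb, hNbn, hNb0, hNbmin⟩ := Cfsg.Agent.H358.TwoTransMod4.exists_min_normal (K ⧸ R)
  let N : Subgroup K := Nb.comap (QuotientGroup.mk' R)
  have hNn : N.Normal := inferInstance
  have hRN : R ≤ N := by
    intro r hr
    show QuotientGroup.mk' R r ∈ Nb
    rw [QuotientGroup.mk'_apply, (QuotientGroup.eq_one_iff r).2 hr]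
    exact Nb.one_mem
  have hNmap : N.map (QuotientGroup.mk' R) = Nb := Subgroup.map_comap_eq_self_of_surjective
    (QuotientGroup.mk'_surjective R) Nb
  have hNidx : N.index = Nb.index := Subgroup.index_comap_of_surjective Nb (QuotientGroup.mk'_surjective R)
  have hcardN : Nat.card N = Nat.card Nb * Nat.card R := by
    have h3 : Nat.card N * N.index = Nat.card K := Subgroup.card_mul_index N
    have h4 : Nat.card Nb * Nb.index = Nat.card (K ⧸ R) := Subgroup.card_mul_index Nb
    have h5 : 0 < Nb.index := Nat.pos_of_ne_zero Subgroup.index_ne_zero_of_finite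
    have h6 : Nat.card N * Nb.index = Nat.card Nb * Nat.card R * Nb.index := by
      rw [← hNidx, h3, hNidx, ← hcardR, ← h4]; ring
    exact Nat.eq_of_mul_eq_mul_right h5 h6
  have hpN : p ∣ Nat.card Nb := by
    by_contra hno
    have h3 : ¬ p ∣ Nat.card N := by
      rw [hcardN]
      intro h4
      rcases hp.dvd_mul.1 h4 with h5 | h5
      · exact hno h5
      · exact hRp h5
    have h4 : N ≤ R := hmax ⟨hNn, h3⟩ hRN
    apply hNb0
    rw [← hNmap, Subgroup.map_eq_bot_iff, QuotientGroup.ker_mk']
    exact h4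
  have hpN2 : ¬ p ^ 2 ∣ Nat.card Nb := fun h =>
    h2 ((h.trans (Subgroup.card_subgroup_dvd_card Nb)).trans (Dvd.intro _ hcardR))
  have hs : IsSimpleGroup Nb := Cfsg.Agent.H363.Frat.isSimple_of_minimal Nb
    (fun L hL hLN => by
      by_cases h0 : L = ⊥
      · exact Or.inl h0
      · exact Or.inr (hNbmin L hL h0 hLN)) hp hpN hpN2
  have hpi : ¬ p ∣ N.index := by
    intro h3
    apply h2
    rw [← Subgroup.card_mul_index N, pow_two]
    exact Nat.mul_dvd_mul (hcardN ▸ hpN.mul_right _) h3
  have hmemN : ∀ x : K, orderOf x = p → x ∈ N := fun x hx => mem_of_not_dvd_index hp hpi hx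
  have hnotR : ∀ x : K, orderOf x = p → x ∉ R := fun x hx hxR =>
    hRp (hx ▸ (Subgroup.orderOf_mk x hxR ▸ orderOf_dvd_natCard (⟨x, hxR⟩ : R)))
  obtain ⟨x₀, hx₀⟩ := exists_prime_orderOf_dvd_card' (G := K) p h1
  have hpR : (Nat.card R).Coprime p := ((Nat.Prime.coprime_iff_not_dvd hp).2 hRp).symm
  by_cases hab : IsMulCommutative Nb
  · left
    have hpc : (Nat.card Nb).Prime := by
      letI : CommGroup Nb := { (inferInstance : Group Nb) with mul_comm := hab.is_comm.comm }
      exact IsSimpleGroup.prime_card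
    have hNbp : Nat.card Nb = p := ((Nat.prime_dvd_prime_iff_eq hp hpc).1 hpN).symm
    refine ⟨zpowers x₀, ?_, by rw [Nat.card_zpowers, hx₀]⟩
    -- the image of `x₀` generates `Nb`
    let xb : Nb := ⟨QuotientGroup.mk' R x₀, hmemN x₀ hx₀⟩
    have hxb : xb ≠ 1 := by
      intro h3
      exact hnotR x₀ hx₀ ((QuotientGroup.eq_one_iff x₀).1 (congrArg Subtype.val h3))
    have hgen : ∀ y : Nb, ∃ k : ℤ, xb ^ k = y := by
      intro y
      have h3 : zpowers xb = ⊤ := by
        have : Fact (Nat.card Nb).Prime := ⟨hpc⟩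
        rcases Subgroup.eq_bot_or_eq_top_of_prime_card (zpowers xb) with h | h
        · exact absurd (zpowers_eq_bot.1 h) hxb
        · exact h
      exact mem_zpowers_iff.1 (h3 ▸ Subgroup.mem_top y)
    have hmem : ∀ x : K, orderOf x = p → x ∈ zpowers x₀ := by
      intro x hx
      obtain ⟨k, hk⟩ := hgen ⟨QuotientGroup.mk' R x, hmemN x hx⟩
      have h3 : (QuotientGroup.mk' R x₀) ^ k = QuotientGroup.mk' R x := by
        have h4 := congrArg Subtype.val hk
        simpa [xb] using h4
      have h4 : (x₀ ^ k)⁻¹ * x ∈ R := by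
        rw [← QuotientGroup.eq_one_iff]
        have h5 : ((((x₀ ^ k)⁻¹ * x : K)) : K ⧸ R) = ((QuotientGroup.mk' R x₀) ^ k)⁻¹ * QuotientGroup.mk' R x := by
          simp
        rw [h5, h3, inv_mul_cancel]
      set ρ := (x₀ ^ k)⁻¹ * x with hρ
      have h5 : x = x₀ ^ k * ρ := by rw [hρ]; group
      have h6 : Commute (x₀ ^ k) ρ := (show Commute x₀ ρ from hc R hRn hRp x₀ hx₀ ρ h4).zpow_left k
      have h7 : x ^ p = (x₀ ^ k) ^ p * ρ ^ p := by rw [h5, h6.mul_pow]
      have h8 : (x₀ ^ k) ^ p = 1 := by
        rw [← zpow_natCast, ← zpow_mul, mul_comm, zpow_mul, zpow_natCast, ← hx₀, pow_orderOf_eq_one, one_zpow]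
      have h9 : ρ ^ p = 1 := by
        rw [← hx, pow_orderOf_eq_one, hx, h8, one_mul] at h7
        exact h7.symm
      have h10 : ρ = 1 := by
        have h11 : orderOf ρ ∣ p := orderOf_dvd_of_pow_eq_one h9
        have h12 : orderOf ρ ∣ Nat.card R := Subgroup.orderOf_mk ρ h4 ▸ orderOf_dvd_natCard (⟨ρ, h4⟩ : R)
        have h13 := Nat.dvd_gcd h12 h11
        rw [hpR.gcd_eq_one, Nat.dvd_one, orderOf_eq_one_iff] at h13
        exact h13
      rw [h5, h10, mul_one]
      exact zpow_mem (mem_zpowers x₀) k
    constructor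
    intro n hn g
    have h3 : orderOf (g * x₀ * g⁻¹) = p := by
      have h4 : orderOf (MulAut.conj g x₀) = orderOf x₀ := MulEquiv.orderOf_eq (MulAut.conj g) x₀
      rw [MulAut.conj_apply] at h4
      exact h4.trans hx₀
    obtain ⟨k, rfl⟩ := mem_zpowers_iff.1 hn
    have h5 : g * x₀ ^ k * g⁻¹ = (g * x₀ * g⁻¹) ^ k := (conj_zpow).symm
    rw [h5]
    exact zpow_mem (hmem _ h3) k
  · right
    let Y : Subgroup K := closure {x : K | orderOf x = p}
    have hYn : Y.Normal := closure_order_normal p
    have hYN : Y ≤ N := (closure_le N).2 hmemN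
    have hxY : x₀ ∈ Y := subset_closure hx₀
    -- `Y` centralises `R`
    have hYR : ∀ y ∈ Y, ∀ r ∈ R, y * r = r * y := by
      have h3 : Y ≤ centralizer (R : Set K) := by
        rw [closure_le]
        intro x hx
        rw [SetLike.mem_coe, mem_centralizer_iff]
        intro r hr
        exact (hc R hRn hRp x hx r hr).symm
      intro y hy r hr
      exact ((mem_centralizer_iff.1 (h3 hy)) r hr).symm
    let f : Y →* K ⧸ R := (QuotientGroup.mk' R).comp Y.subtype
    have hfr : f.range = Nb := by
      have h3 : f.range = Y.map (QuotientGroup.mk' R) := by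
        rw [MonoidHom.range_comp, Subgroup.range_subtype]
      rw [h3]
      apply hNbmin
      · exact hYn.map _ (QuotientGroup.mk'_surjective R)
      · intro h4
        rw [Subgroup.map_eq_bot_iff, QuotientGroup.ker_mk'] at h4
        exact hnotR x₀ hx₀ (h4 hxY)
      · rw [← hNmap]
        exact Subgroup.map_mono hYN
    have hkerc : f.ker ≤ center Y := by
      intro y hy
      have h3 : (y : K) ∈ R := (QuotientGroup.eq_one_iff (y : K)).1 hy
      rw [mem_center_iff]
      intro z
      exact Subtype.ext (hYR z z.2 y h3)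
    let e : Y ⧸ f.ker ≃* Nb := (QuotientGroup.quotientKerEquivRange f).trans (MulEquiv.subgroupCongr hfr)
    have hcNb : center Nb = ⊥ := by
      rcases hs.eq_bot_or_eq_top_of_normal (center Nb) inferInstance with h | h
      · exact h
      · exact absurd ⟨⟨fun a b => (Subgroup.mem_center_iff.1 (h ▸ Subgroup.mem_top b) a)⟩⟩ hab
    have hker : f.ker = center Y := by
      refine le_antisymm hkerc ?_
      intro y hy
      rw [MonoidHom.mem_ker]
      have h3 : (⟨f y, hfr ▸ ⟨y, rfl⟩⟩ : Nb) ∈ center Nb := by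
        rw [mem_center_iff]
        rintro ⟨z, hz⟩
        rw [← hfr] at hz
        obtain ⟨w, rfl⟩ := hz
        apply Subtype.ext
        show f w * f y = f y * f w
        rw [← map_mul, ← map_mul, mem_center_iff.1 hy w]
      rw [hcNb, mem_bot] at h3
      exact congrArg Subtype.val h3
    let e' : Y ⧸ center Y ≃* Nb := (QuotientGroup.quotientMulEquivOfEq hker.symm).trans e
    have hpZ : ¬ p ∣ Nat.card (center Y) := by
      intro h3
      obtain ⟨z, hz⟩ := exists_prime_orderOf_dvd_card' p h3
      have h4 : ((z : Y) : K) ∈ R := (QuotientGroup.eq_one_iff ((z : Y) : K)).1 (by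
        have h5 : (z : Y) ∈ f.ker := by rw [hker]; exact z.2
        exact h5)
      exact hnotR _ (by rw [Subgroup.orderOf_coe, Subgroup.orderOf_coe, hz]) h4
    refine ⟨Y, hYn, ?_, e'.isSimpleGroup, ?_, ?_, hpZ, rfl⟩
    · -- perfect
      set D := commutator Y with hD
      have hDf : ∀ y : Y, ∃ d ∈ D, f d = f y := by
        have h3 : (D.map f).subgroupOf Nb = ⊤ := by
          have h4 : ((D.map f).subgroupOf Nb).Normal := by
            constructor
            rintro ⟨n, hn⟩ hn' ⟨g, hg⟩
            rw [mem_subgroupOf] at hn' ⊢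
            obtain ⟨d, hd, hdn⟩ := hn'
            rw [← hfr] at hg
            obtain ⟨y, rfl⟩ := hg
            refine ⟨y * d * y⁻¹, ?_, ?_⟩
            · exact (inferInstance : D.Normal).conj_mem d hd y
            · have hdn' : f d = n := hdn
              show f (y * d * y⁻¹) = f y * n * (f y)⁻¹
              rw [map_mul, map_mul, map_inv, hdn']
          rcases hs.eq_bot_or_eq_top_of_normal _ h4 with h5 | h5
          · exfalso
            apply hab
            refine ⟨⟨?_⟩⟩
            rintro ⟨a, ha⟩ ⟨b, hb⟩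
            rw [← hfr] at ha hb
            obtain ⟨a, rfl⟩ := ha
            obtain ⟨b, rfl⟩ := hb
            apply Subtype.ext
            show f a * f b = f b * f a
            have h6 : f ⁅a, b⁆ = 1 := by
              have h7 : ⁅a, b⁆ ∈ D := commutator_mem_commutator (mem_top a) (mem_top b)
              have h9 : f ⁅a, b⁆ ∈ Nb := hfr.le ⟨_, rfl⟩
              have h8 : (⟨f ⁅a, b⁆, h9⟩ : Nb) ∈ (D.map f).subgroupOf Nb := by
                rw [mem_subgroupOf]
                exact ⟨_, h7, rfl⟩
              rw [h5, mem_bot] at h8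
              exact congrArg Subtype.val h8
            rw [map_commutatorElement, commutatorElement_eq_one_iff_mul_comm] at h6
            exact h6
          · exact h5
        intro y
        have h4 : (⟨f y, hfr ▸ ⟨y, rfl⟩⟩ : Nb) ∈ (D.map f).subgroupOf Nb := h3 ▸ Subgroup.mem_top _
        rw [mem_subgroupOf] at h4
        obtain ⟨d, hd, hdy⟩ := h4
        exact ⟨d, hd, hdy⟩
      have hxD : ∀ x : K, orderOf x = p → x ∈ D.map Y.subtype := by
        intro x hx
        have hxY : x ∈ Y := subset_closure hx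
        obtain ⟨d, hd, hdx⟩ := hDf ⟨x, hxY⟩
        set z : Y := d⁻¹ * ⟨x, hxY⟩ with hz
        have hzk : z ∈ f.ker := by
          rw [MonoidHom.mem_ker, hz, map_mul, map_inv, hdx, inv_mul_cancel]
        have hzc := hkerc hzk
        have h3 : (⟨x, hxY⟩ : Y) = d * z := by rw [hz]; group
        have h4 : d * z = z * d := mem_center_iff.1 hzc d
        have h5 : (⟨x, hxY⟩ : Y) ^ p = 1 := by
          apply Subtype.ext
          show x ^ p = 1
          rw [← hx, pow_orderOf_eq_one]
        rw [h3, (show Commute d z from h4).mul_pow] at h5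
        have h6 : z ^ p ∈ D := by
          have h7 : z ^ p = (d ^ p)⁻¹ := (inv_eq_of_mul_eq_one_right h5).symm
          rw [h7]
          exact inv_mem (pow_mem hd p)
        have h7 : (orderOf z).Coprime p := by
          rw [Nat.coprime_comm, Nat.Prime.coprime_iff_not_dvd hp]
          intro h8
          apply hpZ
          have h9 := orderOf_dvd_natCard (⟨z, hzc⟩ : center Y)
          rw [Subgroup.orderOf_mk] at h9
          exact h8.trans h9
        have h8 : z ∈ D := (zpowers_le.2 h6) (mem_zpowers_pow h7)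
        refine ⟨⟨x, hxY⟩, ?_, rfl⟩
        rw [h3]
        exact mul_mem hd h8
      have hle : Y ≤ D.map Y.subtype := (closure_le _).2 hxD
      rw [eq_top_iff]
      intro y _
      obtain ⟨d, hd, hdy⟩ := hle y.2
      have : d = y := Subtype.ext hdy
      rwa [← this]
    · intro h3
      apply hab
      refine ⟨⟨fun a b => ?_⟩⟩
      have h4 := h3.is_comm.comm (e'.symm a) (e'.symm b)
      have h5 := congrArg e' h4
      simpa using h5
    · have h3 := orderOf_dvd_natCard (⟨x₀, hxY⟩ : Y)
      rwa [Subgroup.orderOf_mk, hx₀] at h3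

end struct

end Cfsg.Agent.H808.GoodPrime
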